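import Cfsg.Agent.Lib.Schur.StableCert

/-!
Stable-element certificates for the 2- and 3-parts of the Schur multiplier of Co3, and the rules for the 5-part.
-/

set_option autoImplicit false
set_option maxRecDepth 100000

namespace Cfsg.Agent.Co3Mult

/-- The 2-part. (rules) -/
def certTwoRules : List (List ℕ × List ℕ) := [
  ([0, 0], [9]),
  ([1, 0], [0, 1, 2, 5, 6, 7, 9]),
  ([2, 0], [0, 2, 9]),
  ([3, 0], [0, 3, 9]),
  ([4, 0], [0, 4, 5, 7, 8, 9]),
  ([5, 0], [0, 5, 9]),
  ([6, 0], [0, 6]),
  ([7, 0], [0, 7, 9]),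
  ([8, 0], [0, 8, 9]),
  ([9, 0], [0, 9]),
  ([1, 1], []),
  ([2, 1], [1, 2, 9]),
  ([3, 1], [1, 3, 4]),
  ([4, 1], [1, 4]),
  ([5, 1], [1, 5, 9]),
  ([6, 1], [1, 6, 8, 9]),
  ([7, 1], [1, 7, 8]),
  ([8, 1], [1, 8]),
  ([9, 1], [1, 9]),
  ([2, 2], [9]),
  ([3, 2], [2, 3, 5, 8]),
  ([4, 2], [2, 4, 9]),
  ([5, 2], [2, 5, 9]),
  ([6, 2], [2, 6]),
  ([7, 2], [2, 7, 9]),
  ([8, 2], [2, 8]),
  ([9, 2], [2, 9]),
  ([3, 3], []),
  ([4, 3], [3, 4]),
  ([5, 3], [3, 5]),
  ([6, 3], [3, 6, 7, 8]),
  ([7, 3], [3, 7, 9]),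
  ([8, 3], [3, 8, 9]),
  ([9, 3], [3, 9]),
  ([4, 4], []),
  ([5, 4], [4, 5]),
  ([6, 4], [4, 6, 8]),
  ([7, 4], [4, 7, 9]),
  ([8, 4], [4, 8]),
  ([9, 4], [4, 9]),
  ([5, 5], [9]),
  ([6, 5], [5, 6, 9]),
  ([7, 5], [5, 7]),
  ([8, 5], [5, 8]),
  ([9, 5], [5, 9]),
  ([6, 6], []),
  ([7, 6], [6, 7]),
  ([8, 6], [6, 8]),
  ([9, 6], [6, 9]),
  ([7, 7], []),
  ([8, 7], [7, 8]),
  ([9, 7], [7, 9]),
  ([8, 8], []),
  ([9, 8], [8, 9]),
  ([9, 9], []),
  ([10, 0], [0, 5, 7, 8, 9, 10]),
  ([10, 1, 4], [3, 4, 5, 7, 8, 9, 10]),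
  ([10, 2], [5, 9, 10]),
  ([10, 6], [7, 8, 9, 10]),
  ([10, 8], [3, 9, 10]),
  ([10, 9], [9, 10]),
  ([11, 1, 4, 6], [0, 5, 6, 8, 11]),
  ([11, 2], [0, 5, 7, 8, 9, 11]),
  ([11, 4, 7], [0, 2, 5, 8, 11]),
  ([11, 5], [0, 2, 5, 6, 7, 11]),
  ([11, 8], [6, 8, 9, 11]),
  ([11, 9], [9, 11])]

/-- The 2-part. (equations) -/
def certTwoEqs0 : List (List ℕ × List Schur.StableCert.Step × List Schur.StableCert.Step) := [
  ([9, 7, 1], [(0, 51, true), (1, 18, true), (0, 16, true)],
    [(1, 16, true), (0, 18, true), (1, 51, true), (2, 53, true)]),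
  ([9, 6, 3], [(0, 48, true), (1, 33, true), (0, 30, true)],
    [(1, 30, true), (0, 33, true), (1, 48, true), (2, 51, true), (3, 53, true)]),
  ([9, 4, 0], [(0, 39, true), (1, 9, true), (0, 4, true), (5, 54, true)],
    [(1, 4, true), (0, 9, true), (1, 39, true), (2, 44, true), (3, 51, true), (4, 53, true), (5, 54, true)]),
  ([9, 3, 1], [(0, 33, true), (1, 18, true), (0, 12, true)],
    [(1, 12, true), (0, 18, true), (1, 33, true), (2, 39, true)]),
  ([9, 1, 0], [(0, 18, true), (1, 9, true), (0, 1, true), (6, 54, true)],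
    [(1, 1, true), (0, 9, true), (1, 18, true), (2, 26, true), (3, 44, true), (4, 48, true), (5, 51, true), (6, 54, true)]),
  ([8, 6, 3], [(0, 47, true), (1, 32, true), (0, 30, true), (3, 52, true)],
    [(1, 30, true), (0, 32, true), (2, 48, true), (1, 47, true), (3, 51, true), (2, 50, true), (4, 53, true), (3, 52, true)]),
  ([8, 6, 0], [(0, 47, true), (1, 8, true), (0, 6, true)],
    [(1, 6, true), (0, 8, true), (2, 48, true), (1, 47, true)]),
  ([8, 4, 0], [(0, 38, true), (1, 8, true), (0, 4, true), (5, 53, true), (4, 52, true), (4, 54, true)],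
    [(1, 4, true), (0, 8, true), (2, 39, true), (1, 38, true), (3, 44, true), (2, 43, true), (4, 51, true), (3, 50, true), (5, 53, true), (4, 52, true), (4, 54, true)]),
  ([8, 3, 1], [(0, 32, true), (2, 18, true), (1, 17, true), (0, 12, true)],
    [(1, 12, true), (0, 17, true), (1, 32, true), (3, 39, true), (2, 38, true)]),
  ([8, 3, 0], [(0, 32, true), (2, 9, true), (1, 8, true), (0, 3, true), (2, 53, true), (3, 54, true)],
    [(1, 3, true), (0, 8, true), (2, 33, true), (1, 32, true), (3, 54, true)]),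
  ([8, 1, 0], [(0, 17, true), (1, 8, true), (0, 1, true), (6, 53, true), (7, 54, true)],
    [(1, 1, true), (0, 8, true), (2, 18, true), (1, 17, true), (3, 26, true), (2, 25, true), (4, 44, true), (3, 43, true), (5, 48, true), (4, 47, true), (6, 51, true), (5, 50, true), (7, 54, true)]),
  ([7, 6, 1], [(0, 46, true), (1, 16, true), (0, 15, true), (3, 51, true), (2, 50, true), (4, 53, true), (3, 52, true)],
    [(1, 15, true), (0, 16, true), (2, 47, true), (1, 46, true), (3, 52, true)]),
  ([7, 4, 3], [(0, 37, true), (2, 33, true), (1, 31, true), (0, 28, true), (3, 54, true)],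
    [(1, 28, true), (0, 31, true), (2, 39, true), (1, 37, true), (3, 54, true)]),
  ([7, 4, 0], [(0, 37, true), (2, 9, true), (1, 7, true), (0, 4, true), (5, 51, true), (4, 50, true), (3, 49, true), (4, 54, true)],
    [(1, 4, true), (0, 7, true), (2, 39, true), (1, 37, true), (3, 54, true), (2, 42, true), (3, 49, true)]),
  ([7, 3, 1], [(0, 31, true), (2, 18, true), (1, 16, true), (0, 12, true)],
    [(1, 12, true), (0, 16, true), (2, 32, true), (1, 31, true), (3, 53, true), (4, 54, true), (3, 38, true), (2, 37, true), (4, 53, true)]),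
  ([7, 1, 0], [(0, 16, true), (2, 8, true), (1, 7, true), (0, 1, true), (6, 51, true), (5, 49, true), (5, 54, true)],
    [(1, 1, true), (0, 7, true), (2, 18, true), (1, 16, true), (4, 26, true), (3, 25, true), (2, 24, true), (4, 53, true), (5, 54, true), (4, 43, true), (3, 42, true), (5, 47, true), (4, 46, true), (6, 50, true), (5, 49, true)])]

/-- The 2-part. (equations) -/
def certTwoEqs1 : List (List ℕ × List Schur.StableCert.Step × List Schur.StableCert.Step) := [
  ([6, 5, 1], [(0, 41, true), (2, 18, true), (1, 15, true), (0, 14, true), (2, 48, true), (3, 53, true), (4, 54, true)],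
    [(1, 14, true), (0, 15, true), (3, 44, true), (2, 43, true), (1, 41, true), (3, 53, true), (4, 54, true)]),
  ([6, 4, 3], [(0, 36, true), (2, 32, true), (1, 30, true), (0, 28, true), (4, 52, true)],
    [(1, 28, true), (0, 30, true), (3, 38, true), (2, 37, true), (1, 36, true), (3, 50, true), (5, 53, true), (4, 52, true)]),
  ([6, 4, 1], [(0, 36, true), (2, 17, true), (1, 15, true), (0, 13, true), (4, 53, true), (3, 52, true)],
    [(1, 13, true), (0, 15, true), (3, 39, true), (2, 38, true), (1, 36, true), (3, 52, true)]),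
  ([6, 4, 0], [(0, 36, true), (2, 8, true), (1, 6, true), (0, 4, true), (5, 48, true), (4, 47, true), (3, 46, true), (6, 53, true), (5, 52, true), (5, 54, true)],
    [(1, 4, true), (0, 6, true), (1, 36, true), (3, 43, true), (2, 41, true), (4, 53, true), (5, 51, true), (4, 50, true), (6, 53, true), (5, 52, true), (5, 54, true)]),
  ([6, 3, 1], [(0, 30, true), (3, 17, true), (2, 16, true), (1, 15, true), (0, 12, true), (5, 51, true), (4, 50, true), (6, 53, true), (5, 52, true), (5, 53, true)],
    [(1, 12, true), (0, 15, true), (3, 33, true), (2, 32, true), (1, 30, true), (4, 52, true), (4, 54, true), (3, 37, true), (2, 36, true), (4, 50, true)]),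
  ([6, 3, 0], [(0, 30, true), (3, 8, true), (2, 7, true), (1, 6, true), (0, 3, true), (2, 48, true), (3, 51, true), (4, 54, true)],
    [(1, 3, true), (0, 6, true), (1, 30, true)]),
  ([6, 1, 0], [(0, 15, true), (3, 9, true), (2, 8, true), (1, 6, true), (0, 1, true), (6, 48, true), (5, 46, true), (4, 45, true), (5, 53, true), (6, 54, true)],
    [(1, 1, true), (0, 6, true), (1, 15, true), (4, 26, true), (3, 25, true), (2, 23, true), (5, 44, true), (4, 43, true), (3, 41, true), (5, 53, true), (6, 54, true), (5, 47, true), (4, 45, true), (4, 50, true)]),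
  ([5, 3, 1], [(0, 29, true), (1, 14, true), (0, 12, true)],
    [(1, 12, true), (0, 14, true), (2, 33, true), (1, 29, true), (3, 39, true), (2, 35, true)]),
  ([5, 1, 0], [(0, 14, true), (2, 9, true), (1, 5, true), (0, 1, true), (6, 44, true), (5, 42, true), (4, 41, true), (3, 40, true), (3, 48, true), (4, 54, true), (5, 54, true)],
    [(1, 1, true), (0, 5, true), (2, 18, true), (1, 14, true), (3, 54, true), (2, 22, true), (4, 44, true), (3, 40, true), (3, 54, true)]),
  ([4, 3, 0], [(0, 28, true), (1, 4, true), (0, 3, true), (2, 39, true), (3, 44, true), (4, 51, true), (5, 53, true), (6, 54, true)],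
    [(1, 3, true), (0, 4, true), (5, 33, true), (4, 32, true), (3, 31, true), (2, 29, true), (1, 28, true), (5, 53, true), (6, 54, true), (6, 54, true)]),
  ([4, 1, 0], [(0, 13, true), (1, 4, true), (0, 1, true), (6, 39, true), (5, 37, true), (4, 36, true), (3, 35, true), (6, 50, true), (8, 54, true), (7, 43, true), (6, 42, true), (5, 41, true), (4, 40, true), (4, 48, true), (5, 54, true), (6, 50, true), (5, 49, true), (5, 52, true)],
    [(1, 1, true), (0, 4, true), (5, 18, true), (4, 17, true), (3, 16, true), (2, 14, true), (1, 13, true), (4, 51, true), (5, 53, true), (6, 53, true), (5, 52, true), (5, 54, true), (4, 24, true), (3, 22, true), (2, 21, true), (4, 44, true), (5, 54, true), (6, 44, true), (5, 42, true), (4, 40, true), (4, 51, true), (5, 54, true), (4, 46, true), (5, 49, true)]),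
  ([3, 2, 1], [(0, 20, true), (3, 17, true), (2, 14, true), (1, 12, true), (0, 11, true), (2, 33, true), (3, 39, true), (4, 44, true), (5, 54, true)],
    [(1, 11, true), (0, 12, true), (2, 21, true), (1, 20, true), (4, 38, true), (3, 35, true), (6, 54, true)]),
  ([3, 2, 0], [(0, 20, true), (3, 8, true), (2, 5, true), (1, 3, true), (0, 2, true), (2, 33, true), (3, 54, true), (4, 53, true), (5, 54, true)],
    [(1, 2, true), (0, 3, true), (2, 26, true), (1, 20, true), (5, 54, true)]),
  ([3, 1, 0], [(0, 12, true), (2, 4, true), (1, 3, true), (0, 1, true), (6, 33, true), (5, 31, true), (4, 30, true), (3, 29, true), (7, 50, true), (6, 49, true), (7, 54, true), (7, 39, true), (6, 38, true), (5, 36, true), (4, 35, true), (7, 52, true), (7, 44, true), (6, 41, true), (5, 40, true), (5, 48, true), (6, 54, true), (6, 51, true), (7, 53, true), (8, 54, true)],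
    [(1, 1, true), (0, 3, true), (2, 18, true), (1, 12, true), (4, 26, true), (3, 21, true), (2, 20, true), (5, 38, true), (4, 35, true), (7, 54, true), (6, 43, true), (5, 40, true), (5, 53, true), (6, 48, true), (5, 47, true), (7, 51, true), (6, 50, true), (8, 54, true)]),
  ([1, 1, 0], [(0, 10, true)],
    [(1, 1, true), (0, 1, true), (6, 18, true), (5, 16, true), (4, 15, true), (3, 14, true), (2, 11, true), (1, 10, true), (2, 44, true), (3, 54, true), (5, 51, true), (4, 50, true), (6, 53, true), (5, 52, true), (5, 54, true), (4, 24, true), (3, 23, true), (2, 22, true), (1, 19, true), (1, 44, true), (2, 54, true), (4, 44, true), (3, 42, true), (2, 41, true), (1, 40, true), (1, 48, true), (2, 54, true), (3, 48, true), (2, 46, true), (1, 45, true), (2, 51, true), (1, 49, true), (1, 54, true)]),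
  ([1, 0, 0], [(0, 1, true), (6, 9, true), (5, 7, true), (4, 6, true), (3, 5, true), (2, 2, true), (1, 1, true), (0, 0, true), (0, 18, true), (1, 26, true), (2, 44, true), (3, 48, true), (4, 51, true), (5, 54, true), (4, 24, true), (3, 23, true), (2, 22, true), (1, 19, true), (1, 44, true), (2, 54, true), (4, 54, true), (3, 42, true), (2, 41, true), (1, 40, true), (1, 48, true), (2, 54, true), (3, 48, true), (2, 46, true), (1, 45, true), (2, 51, true), (1, 49, true), (1, 54, true)],
    [(1, 0, true)])]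

/-- The 2-part. (equations) -/
def certTwoEqs2 : List (List ℕ × List Schur.StableCert.Step × List Schur.StableCert.Step) := [
  ([4, 4, 0], [(0, 34, true)],
    [(1, 4, true), (0, 4, true), (5, 39, true), (4, 38, true), (3, 37, true), (2, 35, true), (1, 34, true), (3, 53, true), (4, 54, true), (3, 43, true), (2, 42, true), (1, 40, true), (1, 51, true), (2, 53, true), (3, 51, true), (2, 50, true), (1, 49, true), (2, 53, true), (1, 52, true), (1, 54, true)]),
  ([3, 3, 1], [(0, 27, true)],
    [(1, 12, true), (0, 12, true), (2, 28, true), (1, 27, true), (1, 34, true)]),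
  ([3, 1, 1], [(0, 12, true), (2, 13, true), (1, 12, true), (0, 10, true), (1, 34, true)],
    [(1, 10, true)]),
  ([6, 6, 1], [(0, 45, true)],
    [(1, 15, true), (0, 15, true), (3, 48, true), (2, 47, true), (1, 45, true), (2, 53, true), (1, 52, true), (1, 54, true)]),
  ([3, 3, 2], [(0, 27, true)],
    [(1, 20, true), (0, 20, true), (3, 32, true), (2, 29, true), (1, 27, true), (3, 44, true), (2, 43, true), (1, 40, true), (1, 53, true), (2, 54, true), (1, 52, true)]),
  ([3, 2, 2], [(0, 20, true), (3, 25, true), (2, 22, true), (1, 20, true), (0, 19, true), (0, 33, true), (1, 44, true), (2, 53, true), (3, 44, true), (2, 43, true), (1, 40, true), (1, 53, true), (2, 54, true), (2, 53, true), (1, 52, true)],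
    [(1, 19, true)]),
  ([10, 0, 0], [(0, 55, true), (5, 55, true), (4, 9, true), (3, 8, true), (2, 7, true), (1, 5, true), (0, 0, true), (0, 44, true), (1, 54, true), (2, 53, true), (3, 54, true), (3, 44, true), (2, 43, true), (1, 42, true), (0, 40, true), (0, 51, true), (1, 53, true), (2, 54, true), (1, 50, true), (0, 49, true), (0, 52, true)],
    [(1, 0, true), (0, 60, true)]),
  ([10, 1, 4, 1, 4], [(0, 56, true), (6, 56, true), (5, 33, true), (4, 32, true), (3, 31, true), (2, 29, true), (1, 28, true), (0, 27, true), (3, 53, true), (4, 54, true), (4, 39, true), (3, 38, true), (2, 37, true), (1, 35, true), (0, 34, true), (2, 53, true), (3, 54, true), (2, 43, true), (1, 42, true), (0, 40, true), (0, 51, true), (1, 53, true), (2, 51, true), (1, 50, true), (0, 49, true), (1, 53, true), (0, 52, true), (0, 54, true)],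
    [(2, 13, true), (1, 10, true), (1, 34, true)]),
  ([10, 2, 2], [(0, 57, true), (2, 57, true), (1, 44, true), (0, 40, true), (0, 54, true)],
    [(1, 19, true), (0, 60, true)]),
  ([10, 6, 6], [(0, 58, true), (3, 58, true), (2, 51, true), (1, 50, true), (0, 49, true), (1, 53, true), (0, 52, true), (0, 54, true)],
    [(1, 45, true)]),
  ([10, 8, 8], [(0, 59, true), (2, 59, true), (1, 33, true), (0, 27, true), (0, 54, true)],
    [(1, 52, true)]),
  ([10, 2, 0], [(0, 57, true), (2, 55, true), (1, 9, true), (0, 5, true), (2, 54, true), (1, 40, true), (1, 51, true), (2, 53, true), (3, 54, true)],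
    [(1, 2, true), (0, 55, true), (5, 57, true), (7, 60, true), (4, 44, true), (3, 43, true), (2, 42, true), (1, 40, true), (1, 51, true), (2, 53, true), (3, 54, true), (3, 54, true)]),
  ([10, 2, 1, 4], [(0, 57, true), (2, 56, true), (1, 33, true), (0, 29, true), (2, 39, true), (1, 35, true), (3, 44, true), (2, 40, true), (2, 54, true)],
    [(1, 11, true), (3, 39, true), (2, 21, false), (0, 56, true), (6, 57, true), (5, 44, true), (4, 43, true), (3, 42, true), (2, 40, true), (2, 51, true), (3, 53, true), (4, 54, true)]),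
  ([10, 8, 0], [(0, 59, true), (2, 55, true), (1, 9, true), (0, 3, true), (2, 54, true)],
    [(1, 8, true), (0, 55, true), (5, 59, true), (7, 60, true), (4, 33, true), (3, 32, true), (2, 31, true), (1, 29, true), (4, 53, true), (5, 54, true), (5, 54, true)]),
  ([10, 8, 1, 4], [(0, 59, true), (2, 56, true), (1, 33, true), (0, 27, true), (0, 39, true), (1, 44, true), (2, 51, true), (3, 53, true), (4, 54, true)],
    [(1, 17, true), (2, 38, true), (0, 56, true), (6, 59, true), (5, 33, true), (4, 32, true), (3, 31, true), (2, 29, true), (1, 28, true), (0, 27, true), (3, 53, true), (4, 54, true), (4, 54, true)]),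
  ([10, 8, 2], [(0, 59, true), (2, 57, true), (1, 44, true), (2, 54, true)],
    [(1, 25, true), (0, 57, true), (2, 59, true), (1, 33, true), (0, 29, true), (2, 54, true)])]

/-- The 2-part. (equations) -/
def certTwoEqs3 : List (List ℕ × List Schur.StableCert.Step × List Schur.StableCert.Step) := [
  ([11, 1, 4, 6, 1, 4, 6], [(0, 61, true), (4, 61, true), (3, 8, true), (2, 6, true), (1, 5, true), (0, 0, true), (0, 44, true), (1, 54, true), (3, 44, true), (2, 43, true), (1, 41, true), (0, 40, true), (0, 48, true), (1, 54, true), (2, 48, true), (1, 47, true), (0, 45, true), (1, 53, true), (0, 52, true)],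
    [(3, 15, true), (2, 13, true), (1, 10, true), (4, 39, true), (3, 38, true), (2, 36, true), (1, 34, true), (2, 52, true), (2, 48, true), (1, 45, true), (0, 66, true)]),
  ([11, 4, 7, 1, 4, 6], [(0, 63, true), (4, 61, true), (3, 8, true), (2, 5, true), (1, 2, true), (0, 0, true), (0, 26, true), (1, 54, true), (2, 53, true), (3, 54, true), (2, 43, true), (1, 40, true), (1, 53, true), (2, 48, true), (1, 47, true), (3, 53, true), (2, 52, true)],
    [(2, 16, true), (1, 13, true), (4, 38, true), (3, 37, true), (2, 34, true), (3, 53, true), (4, 48, true), (3, 47, true), (2, 46, true), (3, 50, false), (2, 34, false), (3, 36, false), (0, 61, true), (4, 63, true), (8, 66, true), (3, 8, true), (2, 6, true), (1, 5, true), (0, 0, true), (0, 44, true), (1, 54, true), (3, 26, true), (2, 25, true), (1, 23, true), (0, 22, true), (2, 48, true), (3, 53, true), (4, 54, true), (3, 43, true), (2, 41, true), (1, 40, true), (1, 48, true), (2, 54, true), (2, 52, true)]),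
  ([11, 4, 7, 2], [(0, 63, true), (4, 62, true), (3, 8, true), (2, 5, true), (1, 2, true), (0, 0, true), (0, 26, true), (1, 54, true), (2, 53, true), (3, 54, true), (2, 43, true), (1, 40, true), (1, 53, true), (2, 51, true), (1, 50, true), (3, 53, true), (2, 52, true), (2, 54, true)],
    [(2, 24, true), (1, 21, true), (3, 51, true), (4, 54, true), (0, 62, true), (5, 63, true), (4, 9, true), (3, 8, true), (2, 7, true), (1, 5, true), (0, 0, true), (0, 44, true), (1, 54, true), (2, 53, true), (3, 54, true), (3, 26, true), (2, 25, true), (1, 24, true), (0, 22, true), (2, 51, true), (3, 54, true), (4, 44, true), (3, 43, true), (2, 42, true), (1, 40, true), (1, 51, true), (2, 53, true), (3, 54, true), (2, 52, true)])]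

/-- The 2-part. -/
def certTwo : Schur.StableCert.Cert where
  rules := certTwoRules
  n := 10
  sylRules := 55
  eqs := certTwoEqs0 ++ certTwoEqs1 ++ certTwoEqs2 ++ certTwoEqs3
  adj := [
    [],
    [],
    [1, 1, 0, 0, 1, 0, 0, 0, 0, 0, 0, 0, 0, 0, 0, 1],
    [],
    [0, 0, 0, 0, 0, 0, 0, 0, 0, 0, 0, 0, 1],
    [1, 0, 0, 0, 0, 0, 0, 0, 0, 0, 0, 0, 0, 0, 0, 1, 0, 0, 0, 0, 1],
    [],
    [1, 0, 0, 0, 1, 0, 0, 0, 0, 0, 0, 0, 0, 0, 0, 0, 0, 0, 0, 0, 1],
    [1, 0, 0, 0, 0, 0, 0, 0, 0, 0, 0, 0, 0, 0, 0, 1],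
    [1]]
  sel := [
    [],
    [],
    [(0, 1), (1, 1), (2, 1), (3, 1), (4, 1), (7, 1), (8, 1), (9, 1), (10, 1), (11, 1), (13, 1), (16, 1), (18, 1), (19, 1), (20, 1), (21, 1), (23, 1), (24, 1), (26, 1), (30, 1), (34, 1), (36, 1), (38, 1), (39, 1), (40, 1), (41, 1), (42, 1), (44, 1), (46, 1), (48, 1), (49, 1)],
    [(2, 1), (3, 1), (7, 1), (8, 1), (10, 1), (11, 1), (14, 1), (17, 1), (18, 1), (19, 1), (20, 1), (21, 1), (23, 1), (24, 1), (25, 1), (26, 1), (28, 1), (30, 1), (34, 1), (36, 1), (38, 1), (39, 1), (40, 1), (41, 1), (42, 1), (43, 1), (44, 1), (45, 1), (46, 1), (48, 1), (49, 1)],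
    [],
    [(1, 1), (2, 1), (8, 1), (9, 1), (11, 1), (14, 1), (15, 1), (19, 1), (27, 1), (28, 1), (30, 1), (32, 1), (34, 1), (36, 1), (39, 1), (40, 1), (41, 1), (42, 1), (43, 1), (44, 1), (46, 1), (48, 1), (49, 1)],
    [(4, 1), (5, 1), (14, 1), (15, 1), (17, 1), (19, 1), (21, 1), (22, 1), (24, 1), (31, 1), (35, 1), (40, 1), (41, 1), (43, 1)],
    [(0, 1), (3, 1), (4, 1), (8, 1), (9, 1), (11, 1), (12, 1), (14, 1), (15, 1), (19, 1), (21, 1), (27, 1), (30, 1), (32, 1), (34, 1), (36, 1), (39, 1), (40, 1), (41, 1), (42, 1), (43, 1), (44, 1), (46, 1), (48, 1), (49, 1)],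
    [(4, 1), (7, 1), (8, 1), (9, 1), (11, 1), (12, 1), (15, 1), (16, 1), (17, 1), (19, 1), (27, 1), (30, 1), (32, 1), (34, 1), (36, 1), (39, 1), (40, 1), (41, 1), (42, 1), (43, 1), (44, 1), (46, 1), (48, 1), (49, 1)],
    [(0, 1), (3, 1), (9, 1), (12, 1)],
    [(0, 1), (2, 1), (5, 1), (11, 1), (12, 1), (25, 1), (32, 1), (33, 1), (34, 1), (35, 1), (39, 1), (42, 1)],
    [(0, 1), (1, 1), (3, 1), (4, 1), (5, 1), (8, 1), (9, 1), (11, 1), (12, 1), (13, 1), (14, 1), (15, 1), (17, 1), (19, 1), (27, 1), (30, 1), (34, 1), (37, 1), (38, 1), (39, 1), (40, 1), (41, 1), (42, 1), (46, 1), (48, 1), (49, 1), (50, 1)],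
    [],
    [(0, 1), (12, 1), (18, 1), (25, 1), (33, 1), (34, 1), (46, 1)],
    [(1, 1), (3, 1), (5, 1), (6, 1), (7, 1), (8, 1), (10, 1), (12, 1), (14, 1), (15, 1), (16, 1), (17, 1), (18, 1), (19, 1), (30, 1), (34, 1), (37, 1), (38, 1), (39, 1), (40, 1), (41, 1), (42, 1), (44, 1), (46, 1), (47, 1), (48, 1), (49, 1), (50, 1)],
    [],
    [(0, 1), (1, 1), (4, 1), (5, 1), (6, 1), (7, 1), (8, 1), (9, 1), (11, 1), (15, 1), (16, 1), (20, 1), (21, 1), (22, 1), (23, 1), (26, 1), (27, 1), (28, 1), (34, 1), (36, 1), (38, 1), (39, 1), (42, 1), (43, 1), (46, 1), (47, 1), (48, 1), (49, 1)],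
    [(3, 1), (5, 1), (7, 1), (8, 1), (16, 1), (18, 1)],
    [(0, 1), (3, 1), (5, 1), (7, 1), (16, 1)],
    [(0, 1), (1, 1), (3, 1), (4, 1), (5, 1), (6, 1), (8, 1), (10, 1), (11, 1), (12, 1), (15, 1), (19, 1), (21, 1), (23, 1), (27, 1), (28, 1), (30, 1), (34, 1), (35, 1), (38, 1), (39, 1), (41, 1), (42, 1), (43, 1), (44, 1), (46, 1), (47, 1), (48, 1), (49, 1)],
    [],
    [(0, 1), (2, 1), (5, 1), (6, 1), (7, 1), (8, 1), (10, 1), (12, 1), (14, 1), (15, 1), (16, 1), (17, 1), (19, 1), (23, 1), (27, 1), (30, 1), (34, 1), (37, 1), (38, 1), (39, 1), (40, 1), (41, 1), (42, 1), (44, 1), (46, 1), (47, 1), (48, 1), (49, 1), (50, 1)],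
    [(2, 1), (3, 1), (4, 1), (5, 1), (8, 1), (10, 1), (11, 1), (16, 1), (17, 1), (18, 1), (19, 1), (20, 1), (24, 1), (26, 1), (30, 1), (32, 1), (34, 1), (37, 1), (39, 1), (40, 1), (41, 1), (42, 1), (43, 1), (44, 1), (46, 1), (47, 1), (48, 1), (49, 1)],
    [(0, 1), (2, 1), (3, 1), (9, 1), (10, 1), (11, 1), (12, 1), (16, 1), (19, 1), (22, 1)],
    [(0, 1), (2, 1), (4, 1), (5, 1), (8, 1), (9, 1), (12, 1), (15, 1), (17, 1), (18, 1), (20, 1), (26, 1), (30, 1), (32, 1), (34, 1), (37, 1), (39, 1), (40, 1), (41, 1), (42, 1), (43, 1), (44, 1), (46, 1), (47, 1), (48, 1), (49, 1)],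
    [(0, 1), (2, 1), (4, 1), (6, 1), (10, 1), (11, 1), (16, 1)],
    [(0, 1), (2, 1), (4, 1), (6, 1)],
    [(0, 1), (3, 1), (5, 1), (11, 1), (12, 1), (35, 1), (42, 1)],
    [(0, 1), (12, 1), (18, 1), (25, 1), (46, 1)],
    [(0, 1), (1, 1), (3, 1), (4, 1), (6, 1), (10, 1), (11, 1), (12, 1), (16, 1), (47, 1)],
    [(3, 1), (4, 1), (6, 1), (12, 1), (18, 1), (19, 1), (21, 1), (22, 1), (23, 1), (24, 1), (25, 1), (26, 1), (28, 1), (29, 1), (30, 1), (32, 1), (35, 1), (36, 1), (40, 1), (41, 1), (43, 1), (44, 1), (50, 1)],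
    [(3, 1), (5, 1), (7, 1), (8, 1), (14, 1), (16, 1), (18, 1), (19, 1), (20, 1), (24, 1), (25, 1), (26, 1), (30, 1), (32, 1), (34, 1), (36, 1), (39, 1), (40, 1), (41, 1), (42, 1), (43, 1), (44, 1), (46, 1), (47, 1), (48, 1), (49, 1)],
    [(2, 1), (3, 1), (4, 1), (5, 1), (8, 1), (10, 1), (11, 1), (16, 1), (17, 1), (18, 1), (19, 1), (20, 1), (24, 1), (26, 1), (30, 1), (32, 1), (34, 1), (36, 1), (39, 1), (40, 1), (41, 1), (42, 1), (43, 1), (44, 1), (46, 1), (48, 1), (49, 1)],
    [(3, 1), (12, 1)],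
    [(0, 1), (12, 1), (18, 1), (25, 1), (33, 1), (46, 1)],
    [(12, 1), (23, 1)],
    [(3, 1), (4, 1), (6, 1), (8, 1), (9, 1), (11, 1), (12, 1), (14, 1), (15, 1), (18, 1), (21, 1), (22, 1), (23, 1), (26, 1), (27, 1), (28, 1), (34, 1), (36, 1), (38, 1), (39, 1), (42, 1), (43, 1), (46, 1), (47, 1), (48, 1), (49, 1)],
    [(1, 1), (2, 1), (3, 1), (4, 1), (5, 1), (6, 1), (7, 1), (10, 1), (11, 1), (18, 1), (19, 1), (20, 1), (24, 1), (26, 1), (30, 1), (32, 1), (34, 1), (36, 1), (39, 1), (40, 1), (41, 1), (42, 1), (43, 1), (44, 1), (46, 1), (48, 1), (49, 1)],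
    [(0, 1), (5, 1), (7, 1), (8, 1), (16, 1)],
    [(3, 1)],
    [(1, 1), (2, 1), (3, 1), (5, 1), (7, 1), (8, 1), (11, 1), (12, 1), (17, 1), (18, 1), (19, 1), (20, 1), (24, 1), (26, 1), (30, 1), (32, 1), (34, 1), (35, 1), (39, 1), (40, 1), (41, 1), (42, 1), (43, 1), (44, 1), (46, 1), (47, 1), (48, 1), (49, 1)],
    [(2, 1), (3, 1), (4, 1), (5, 1), (7, 1), (8, 1), (10, 1), (11, 1), (13, 1), (17, 1), (18, 1), (19, 1), (20, 1), (26, 1), (30, 1), (32, 1), (34, 1), (37, 1), (39, 1), (40, 1), (41, 1), (42, 1), (43, 1), (44, 1), (46, 1), (47, 1), (48, 1), (49, 1)],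
    [(5, 1), (6, 1), (9, 1), (12, 1), (13, 1)],
    [(0, 1), (1, 1), (2, 1), (3, 1), (5, 1), (6, 1), (7, 1)],
    [(1, 1), (2, 1)],
    [(0, 1), (1, 1), (2, 1), (3, 1), (4, 1), (5, 1), (7, 1), (9, 1), (10, 1), (12, 1), (13, 1), (14, 1), (23, 1), (32, 1), (35, 1), (36, 1), (41, 1), (47, 1)],
    [(0, 1), (1, 1), (7, 1), (9, 1), (10, 1), (11, 1), (12, 1), (13, 1), (15, 1), (16, 1), (18, 1), (19, 1), (20, 1), (26, 1), (27, 1), (36, 1), (37, 1), (47, 1)],
    [(5, 1), (6, 1), (11, 1)],
    [(6, 1)],
    [(1, 1), (2, 1), (3, 1), (4, 1), (5, 1), (6, 1), (7, 1), (9, 1), (10, 1), (11, 1), (12, 1), (13, 1), (14, 1), (23, 1), (32, 1), (36, 1), (47, 1)],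
    [(1, 1), (5, 1), (6, 1)],
    [(0, 1), (1, 1)],
    [(0, 1), (1, 1), (3, 1), (5, 1), (6, 1), (7, 1), (11, 1), (14, 1), (16, 1), (17, 1), (35, 1)],
    [(0, 1)],
    [(1, 1), (3, 1), (6, 1), (7, 1), (14, 1), (16, 1), (17, 1)]]
  extra := []

/-- The 3-part. (rules) -/
def certThreeRules : List (List ℕ × List ℕ) := [
  ([0, 0, 0], []),
  ([1, 0], [0, 1]),
  ([2, 0], [0, 2, 5, 5, 6, 6]),
  ([3, 0], [0, 3, 4, 4, 5]),
  ([4, 0], [0, 4]),
  ([5, 0], [0, 5]),
  ([6, 0], [0, 6]),
  ([1, 1, 1], []),
  ([2, 1], [1, 2, 4, 4, 5, 5, 6]),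
  ([3, 1], [1, 3, 4, 4, 6]),
  ([4, 1], [1, 4]),
  ([5, 1], [1, 5]),
  ([6, 1], [1, 6]),
  ([2, 2, 2], []),
  ([3, 2], [2, 3]),
  ([4, 2], [2, 4, 6]),
  ([5, 2], [2, 5, 6]),
  ([6, 2], [2, 6]),
  ([3, 3, 3], []),
  ([4, 3], [3, 4, 6]),
  ([5, 3], [3, 5]),
  ([6, 3], [3, 6]),
  ([4, 4, 4], []),
  ([5, 4], [4, 5]),
  ([6, 4], [4, 6]),
  ([5, 5, 5], []),
  ([6, 5], [5, 6]),
  ([6, 6, 6], []),
  ([7, 0], [1, 7]),
  ([7, 1], [0, 0, 4, 5, 5, 6, 7]),
  ([7, 2], [3, 4, 4, 5, 5, 6, 7]),
  ([7, 3], [2, 3, 3, 4, 4, 6, 6, 7]),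
  ([7, 4], [4, 5, 6, 7]),
  ([7, 5], [4, 6, 7]),
  ([7, 6], [6, 7]),
  ([8, 0], [0, 0, 5, 5, 6, 8]),
  ([8, 1], [1, 5, 5, 6, 8]),
  ([8, 2], [2, 2, 3, 3, 4, 4, 5, 8]),
  ([8, 3], [2, 2, 3, 5, 6, 6, 8]),
  ([8, 4], [5, 5, 8]),
  ([8, 5], [4, 6, 6, 8]),
  ([8, 6], [6, 8])]

/-- The 3-part. (equations) -/
def certThreeEqs0 : List (List ℕ × List Schur.StableCert.Step × List Schur.StableCert.Step) := [
  ([6, 3, 1], [(0, 21, true), (1, 12, true), (0, 9, true)],
    [(1, 9, true), (0, 12, true), (1, 21, true), (2, 24, true), (3, 24, true)]),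
  ([6, 3, 0], [(0, 21, true), (1, 6, true), (0, 3, true)],
    [(1, 3, true), (0, 6, true), (1, 21, true), (2, 24, true), (3, 24, true), (4, 26, true)]),
  ([5, 3, 2], [(0, 20, true), (1, 16, true), (0, 14, true)],
    [(1, 14, true), (0, 16, true), (2, 21, true), (1, 20, true)]),
  ([5, 3, 1], [(0, 20, true), (1, 11, true), (0, 9, true), (4, 26, true)],
    [(1, 9, true), (0, 11, true), (1, 20, true), (2, 23, true), (3, 23, true)]),
  ([5, 2, 1], [(0, 16, true), (2, 12, true), (1, 11, true), (0, 8, true), (6, 26, true), (4, 25, true)],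
    [(1, 8, true), (0, 11, true), (1, 16, true), (3, 24, true), (2, 23, true), (4, 24, true), (3, 23, true), (5, 26, true), (6, 26, true), (4, 25, true)]),
  ([5, 2, 0], [(0, 16, true), (2, 6, true), (1, 5, true), (0, 2, true), (5, 26, true), (4, 26, true), (2, 25, true), (2, 27, true)],
    [(1, 2, true), (0, 5, true), (1, 16, true), (3, 26, true), (4, 26, true), (2, 25, true), (2, 27, true)]),
  ([4, 3, 2], [(0, 19, true), (2, 17, true), (1, 15, true), (0, 14, true)],
    [(1, 14, true), (0, 15, true), (2, 21, true), (1, 19, true)]),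
  ([3, 2, 1], [(0, 14, true), (1, 9, true), (0, 8, true), (6, 21, true), (5, 20, true), (4, 20, true), (3, 19, true), (2, 19, true), (4, 24, true), (6, 26, true), (5, 26, true), (7, 26, true), (6, 26, true), (7, 27, true), (6, 23, true), (5, 23, true), (3, 22, true), (4, 23, true), (3, 23, true)],
    [(1, 8, true), (0, 9, true), (4, 17, true), (3, 15, true), (2, 15, true), (1, 14, true), (4, 24, true), (5, 27, true), (3, 22, true)]),
  ([3, 2, 0], [(0, 14, true), (1, 3, true), (0, 2, true), (5, 21, true), (4, 21, true), (3, 20, true), (2, 20, true), (6, 24, true), (5, 24, true), (4, 23, true), (3, 23, true), (7, 24, true), (6, 24, true), (5, 23, true), (4, 23, true), (8, 26, true), (7, 26, true), (5, 25, true)],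
    [(1, 2, true), (0, 3, true), (4, 16, true), (3, 15, true), (2, 15, true), (1, 14, true), (4, 24, true), (6, 26, true), (5, 26, true), (6, 27, true), (5, 25, true)]),
  ([3, 1, 0], [(0, 9, true), (4, 6, true), (3, 4, true), (2, 4, true), (1, 3, true), (0, 1, true), (5, 23, true), (3, 22, true), (3, 23, true)],
    [(1, 1, true), (0, 3, true), (4, 11, true), (3, 10, true), (2, 10, true), (1, 9, true), (5, 24, true), (3, 22, true), (3, 24, true), (4, 26, true)]),
  ([2, 1, 0], [(0, 8, true), (6, 6, true), (5, 5, true), (4, 5, true), (3, 4, true), (2, 4, true), (1, 2, true), (0, 1, true), (6, 24, true), (5, 24, true), (4, 23, true), (3, 23, true), (7, 24, true), (6, 24, true), (5, 23, true), (4, 23, true), (8, 26, true), (7, 26, true), (5, 25, true), (6, 26, true), (5, 26, true), (6, 27, true)],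
    [(1, 1, true), (0, 2, true), (5, 12, true), (4, 12, true), (3, 11, true), (2, 11, true), (1, 8, true), (7, 26, true), (5, 25, true), (5, 26, true), (6, 27, true)]),
  ([2, 2, 2, 0], [(0, 13, true)],
    [(2, 2, true), (1, 2, true), (0, 2, true), (5, 17, true), (4, 17, true), (3, 16, true), (2, 16, true), (4, 26, true), (5, 27, true), (5, 26, true), (3, 25, true), (3, 26, true), (4, 27, true), (3, 16, true), (1, 13, true), (2, 26, true), (3, 26, true), (1, 25, true), (1, 27, true)]),
  ([2, 0, 0, 0], [(0, 2, true), (5, 6, true), (4, 6, true), (3, 5, true), (2, 5, true), (1, 2, true), (6, 26, true), (5, 26, true), (3, 25, true), (4, 26, true), (3, 26, true), (4, 27, true), (4, 6, true), (3, 5, true), (2, 2, true), (0, 0, true), (4, 26, true), (3, 26, true), (1, 25, true), (1, 27, true)],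
    [(1, 0, true)]),
  ([3, 3, 3, 0], [(0, 18, true)],
    [(2, 3, true), (1, 3, true), (0, 3, true), (4, 20, true), (3, 19, true), (2, 19, true), (4, 24, true), (6, 26, true), (5, 26, true), (7, 24, true), (6, 24, true), (5, 23, true), (3, 22, true), (5, 24, true), (4, 24, true), (3, 23, true), (6, 26, true), (5, 26, true), (7, 21, true), (6, 21, true), (5, 20, true), (4, 20, true), (3, 19, true), (1, 18, true), (2, 26, true), (3, 26, true), (4, 27, true), (3, 23, true), (2, 23, true), (4, 23, true), (3, 23, true), (1, 22, true), (1, 25, true)]),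
  ([7, 0, 0, 0], [(0, 28, true), (1, 28, true), (2, 28, true), (0, 7, true)],
    [(1, 0, true)]),
  ([7, 1, 1, 1], [(0, 29, true), (6, 29, true), (12, 29, true), (5, 6, true), (4, 5, true), (3, 5, true), (2, 4, true), (0, 0, true), (3, 6, true), (2, 5, true), (1, 5, true), (0, 4, true), (4, 24, true), (3, 23, true), (2, 23, true), (5, 26, true), (3, 25, true), (3, 26, true), (5, 6, true), (4, 6, true), (3, 5, true), (2, 4, true), (1, 4, true), (6, 6, true), (5, 6, true), (4, 5, true), (3, 4, true), (2, 4, true), (0, 0, true), (4, 24, true), (3, 24, true), (2, 23, true), (0, 22, true), (2, 26, true), (1, 26, true), (3, 26, true), (2, 26, true), (0, 25, true), (0, 27, true)],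
    [(1, 7, true)])]

/-- The 3-part. (equations) -/
def certThreeEqs1 : List (List ℕ × List Schur.StableCert.Step × List Schur.StableCert.Step) := [
  ([7, 2, 2, 2], [(0, 30, true), (6, 30, true), (12, 30, true), (5, 21, true), (4, 20, true), (3, 20, true), (2, 19, true), (1, 19, true), (3, 24, true), (5, 26, true), (4, 26, true), (6, 26, true), (5, 26, true), (6, 27, true), (5, 23, true), (4, 23, true), (2, 22, true), (3, 23, true), (2, 23, true), (3, 25, true), (4, 21, true), (3, 20, true), (2, 19, true), (0, 18, true), (1, 26, true), (3, 24, true), (2, 24, true), (1, 23, true), (4, 24, true), (3, 24, true), (2, 23, true), (0, 22, true), (2, 26, true), (1, 26, true), (3, 26, true), (2, 26, true), (0, 25, true), (0, 27, true)],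
    [(1, 13, true)]),
  ([7, 3, 3, 3], [(0, 31, true), (7, 31, true), (14, 31, true), (6, 17, true), (5, 17, true), (4, 15, true), (3, 15, true), (2, 14, true), (1, 14, true), (5, 24, true), (6, 27, true), (6, 21, true), (5, 19, true), (4, 19, true), (2, 18, true), (3, 24, true), (4, 27, true), (3, 19, true), (2, 19, true), (4, 24, true), (6, 24, true), (5, 24, true), (3, 22, true), (4, 24, true), (3, 24, true), (4, 27, true), (4, 17, true), (3, 15, true), (2, 14, true), (0, 13, true), (3, 21, true), (2, 21, true), (1, 19, true), (3, 27, true), (2, 19, true), (0, 18, true), (1, 24, true), (2, 24, true), (0, 22, true), (0, 27, true)],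
    [(1, 18, true)]),
  ([7, 1, 0], [(0, 29, true), (6, 28, true), (5, 12, true), (4, 11, true), (3, 11, true), (2, 10, true)],
    [(1, 1, true), (0, 28, true), (1, 29, true), (0, 1, true), (1, 1, true)]),
  ([7, 2, 0], [(0, 30, true), (6, 28, true), (5, 12, true), (4, 11, true), (3, 11, true), (2, 10, true), (1, 10, true), (0, 9, true), (4, 24, true), (2, 22, true), (2, 24, true), (3, 26, true), (4, 26, true)],
    [(1, 2, true), (0, 28, true), (1, 30, true), (7, 33, true), (9, 33, true), (11, 34, true), (12, 34, true), (6, 24, true), (5, 23, true), (4, 23, true), (2, 22, true), (5, 24, true), (4, 24, true), (3, 23, true), (2, 23, true), (5, 27, true)]),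
  ([7, 2, 1], [(0, 30, true), (6, 29, true), (5, 6, true), (4, 5, true), (3, 5, true), (2, 4, true), (1, 4, true), (0, 3, true), (4, 23, true), (2, 22, true), (2, 23, true), (3, 25, true), (3, 6, true), (2, 4, true), (1, 3, true), (5, 23, true), (3, 22, true), (4, 24, true), (3, 23, true), (5, 26, true), (6, 26, true), (4, 25, true)],
    [(1, 8, true), (0, 29, true), (6, 30, true), (12, 32, true), (15, 32, true), (18, 33, true), (20, 33, true), (22, 34, true), (5, 21, true), (4, 20, true), (3, 20, true), (2, 19, true), (4, 26, true), (5, 26, true), (7, 24, true), (6, 24, true), (5, 23, true), (4, 23, true), (8, 24, true), (7, 24, true), (6, 23, true), (5, 23, true), (3, 22, true), (6, 26, true), (5, 26, true), (3, 25, true), (4, 26, true), (3, 26, true), (4, 27, true), (3, 23, true), (6, 24, true), (5, 23, true), (4, 23, true), (7, 26, true), (5, 25, true), (6, 24, true), (5, 24, true), (3, 22, true), (3, 27, true)]),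
  ([7, 3, 0], [(0, 31, true), (7, 28, true), (6, 12, true), (5, 12, true), (4, 10, true), (3, 10, true), (2, 9, true), (1, 9, true), (0, 8, true), (6, 21, true), (5, 20, true), (4, 20, true), (3, 19, true), (2, 19, true), (4, 24, true), (6, 26, true), (5, 26, true), (7, 26, true), (6, 26, true), (7, 27, true), (6, 23, true), (5, 23, true), (3, 22, true), (4, 23, true), (3, 23, true), (6, 21, true), (5, 20, true), (4, 20, true), (3, 19, true), (5, 26, true), (6, 26, true), (8, 24, true), (7, 24, true), (6, 23, true), (5, 23, true), (9, 24, true), (8, 24, true), (7, 23, true), (6, 23, true), (4, 22, true), (6, 27, true), (5, 23, true), (4, 23, true), (6, 23, true), (5, 23, true)],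
    [(1, 3, true), (0, 28, true), (1, 31, true), (8, 32, true), (11, 32, true), (14, 33, true), (7, 24, true), (6, 24, true), (4, 22, true), (5, 26, true), (4, 26, true), (5, 27, true), (4, 23, true), (7, 24, true), (6, 23, true), (5, 23, true)]),
  ([7, 3, 1], [(0, 31, true), (7, 29, true), (6, 6, true), (5, 6, true), (4, 4, true), (3, 4, true), (2, 3, true), (1, 3, true), (0, 2, true), (5, 21, true), (4, 21, true), (3, 20, true), (2, 20, true), (6, 24, true), (5, 24, true), (4, 23, true), (3, 23, true), (7, 24, true), (6, 24, true), (5, 23, true), (4, 23, true), (8, 26, true), (7, 26, true), (5, 25, true), (6, 21, true), (5, 21, true), (4, 19, true), (3, 19, true), (5, 24, true), (6, 27, true), (6, 24, true), (4, 22, true), (4, 24, true), (5, 26, true), (6, 24, true), (5, 23, true), (7, 24, true), (6, 23, true), (4, 22, true), (5, 27, true), (4, 5, true), (3, 3, true), (2, 3, true), (1, 2, true), (6, 21, true), (5, 21, true), (4, 20, true), (3, 20, true), (7, 24, true), (6, 24, true), (5,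 23, true), (4, 23, true), (8, 24, true), (7, 24, true), (6, 23, true), (5, 23, true), (9, 26, true), (8, 26, true), (6, 25, true), (7, 21, true), (6, 21, true), (5, 19, true), (4, 19, true), (6, 24, true), (7, 27, true), (7, 24, true), (5, 22, true), (5, 24, true), (6, 26, true), (7, 26, true), (8, 24, true), (7, 23, true), (6, 23, true), (9, 26, true), (7, 25, true), (7, 26, true)],
    [(1, 9, true), (0, 29, true), (6, 31, true), (13, 32, true), (16, 32, true), (19, 34, true), (5, 17, true), (4, 16, true), (3, 16, true), (2, 15, true), (4, 26, true), (6, 26, true), (5, 26, true), (6, 27, true), (6, 21, true), (5, 20, true), (4, 20, true), (3, 19, true), (5, 26, true), (6, 26, true), (8, 21, true), (7, 21, true), (6, 20, true), (5, 20, true), (4, 19, true), (6, 26, true), (7, 26, true), (8, 27, true), (7, 23, true), (6, 23, true), (8, 23, true), (7, 23, true), (5, 22, true), (8, 24, true), (7, 24, true), (6, 23, true), (5, 23, true), (9, 26, true), (8, 26, true), (6, 25, true), (6, 27, true)]),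
  ([7, 3, 2], [(0, 31, true), (7, 30, true), (6, 21, true), (5, 21, true), (4, 19, true), (3, 19, true), (1, 18, true), (2, 24, true), (3, 27, true), (3, 24, true), (1, 22, true), (1, 24, true), (2, 26, true), (3, 26, true)],
    [(1, 14, true), (0, 30, true), (6, 31, true), (5, 17, true), (4, 16, true), (3, 16, true), (2, 15, true), (1, 15, true), (0, 14, true), (3, 24, true), (5, 26, true), (4, 26, true), (5, 27, true), (7, 21, true), (6, 21, true), (5, 20, true), (4, 20, true), (3, 19, true), (2, 19, true), (4, 24, true), (6, 26, true), (5, 26, true), (7, 26, true), (6, 26, true), (7, 27, true), (7, 21, true), (6, 20, true), (5, 20, true), (4, 19, true), (3, 19, true), (1, 18, true), (2, 24, true), (4, 26, true), (3, 26, true), (5, 26, true), (4, 26, true), (5, 27, true), (4, 23, true), (3, 23, true), (1, 22, true), (2, 23, true), (1, 23, true)]),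
  ([7, 4, 0], [(0, 32, true), (3, 28, true), (2, 12, true), (1, 11, true), (0, 10, true)],
    [(1, 4, true), (0, 28, true), (1, 32, true)]),
  ([7, 4, 2], [(0, 32, true), (3, 30, true), (2, 21, true), (1, 20, true), (0, 19, true), (2, 26, true), (4, 24, true), (3, 24, true), (2, 23, true), (5, 24, true), (4, 24, true), (3, 23, true), (1, 22, true), (3, 26, true), (2, 26, true), (4, 26, true), (3, 26, true), (1, 25, true), (1, 27, true)],
    [(1, 15, true), (0, 30, true), (6, 32, true), (9, 34, true), (5, 24, true), (4, 23, true), (3, 23, true), (1, 22, true), (3, 26, true), (1, 25, true), (1, 27, true)]),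
  ([8, 1, 0], [(0, 36, true), (4, 35, true), (3, 6, true), (2, 5, true), (1, 5, true), (0, 1, true), (4, 6, true), (3, 5, true), (2, 5, true), (1, 1, true), (5, 26, true), (3, 25, true), (3, 26, true)],
    [(1, 1, true), (0, 35, true), (5, 36, true), (4, 12, true), (3, 11, true), (2, 11, true), (5, 26, true), (3, 25, true), (3, 26, true)]),
  ([8, 2, 0], [(0, 37, true), (7, 35, true), (6, 5, true), (5, 4, true), (4, 4, true), (3, 3, true), (2, 3, true), (1, 2, true), (0, 2, true), (5, 17, true), (4, 17, true), (3, 16, true), (2, 16, true), (4, 26, true), (5, 27, true), (5, 26, true), (3, 25, true), (3, 26, true), (4, 27, true), (3, 20, true), (4, 23, true), (5, 23, true), (7, 20, true), (6, 20, true), (5, 19, true), (4, 19, true), (6, 24, true), (8, 26, true), (7, 26, true), (9, 26, true), (8, 26, true), (10, 24, true), (9, 24, true), (8, 23, true), (7, 23, true), (5, 22, true), (8, 24, true), (7, 24, true), (6, 23, true), (5, 23, true), (9, 26, true), (8, 26, true), (6, 25, true), (7, 24,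 true), (6, 24, true), (8, 24, true), (7, 24, true), (5, 22, true), (6, 26, true), (5, 26, true), (7, 6, true), (6, 6, true), (5, 5, true), (4, 3, true), (3, 3, true), (2, 2, true), (1, 2, true), (6, 17, true), (5, 17, true), (4, 16, true), (3, 16, true), (5, 26, true), (6, 27, true), (6, 26, true), (4, 25, true), (4, 26, true), (5, 27, true), (4, 20, true), (5, 23, true), (6, 23, true), (8, 20, true), (7, 20, true), (6, 19, true), (5, 19, true), (7, 24, true), (9, 26, true), (8, 26, true), (10, 26, true), (9, 26, true), (11, 24, true), (10, 24, true), (9, 23, true), (8, 23, true), (6, 22, true), (9, 24, true), (8, 24, true), (7, 23, true), (6, 23, true), (10, 26, true), (9, 26, true), (7, 25, true), (8, 26, true), (7, 26, true), (8, 27, true), (8, 26, true), (9, 26, true), (7, 25, true)],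
    [(1, 2, true), (0, 35, true), (5, 37, true), (12, 40, true), (15, 40, true), (18, 41, true), (19, 41, true), (4, 17, true), (3, 16, true), (2, 16, true), (4, 26, true), (5, 27, true), (4, 16, true), (3, 16, true), (5, 26, true), (7, 21, true), (6, 21, true), (5, 20, true), (4, 20, true), (8, 21, true), (7, 21, true), (6, 20, true), (5, 20, true), (9, 24, true), (8, 24, true), (7, 23, true), (6, 23, true), (10, 24, true), (9, 24, true), (8, 23, true), (7, 23, true), (11, 26, true), (10, 26, true), (8, 25, true), (9, 24, true), (8, 24, true), (6, 22, true), (6, 27, true), (6, 24, true), (7, 27, true)]),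
  ([8, 2, 1], [(0, 37, true), (7, 36, true), (6, 11, true), (5, 10, true), (4, 10, true), (3, 9, true), (2, 9, true), (1, 8, true), (0, 8, true), (6, 17, true), (5, 16, true), (4, 16, true), (3, 15, true), (2, 15, true), (4, 24, true), (6, 26, true), (5, 26, true), (6, 27, true), (8, 24, true), (7, 24, true), (6, 23, true), (5, 23, true), (3, 22, true), (6, 24, true), (5, 24, true), (4, 23, true), (3, 23, true), (7, 26, true), (6, 26, true), (4, 25, true), (5, 26, true), (4, 26, true), (5, 27, true), (4, 20, true), (3, 19, true), (5, 26, true), (6, 24, true), (5, 23, true), (7, 24, true), (6, 23, true), (4, 22, true), (6, 21, true), (5, 21, true), (4, 20, true), (7, 24, true), (6, 24, true), (5, 23, true), (8, 24, true), (7, 24, true), (6, 23, true), (8, 27, true), (7, 23, true), (5, 22, true), (5, 23, true), (6, 25, true)],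
    [(1, 8, true), (0, 36, true), (4, 37, true), (11, 39, true), (13, 39, true), (15, 40, true), (18, 40, true), (21, 41, true), (3, 17, true), (2, 16, true), (1, 16, true), (3, 26, true), (4, 27, true), (3, 16, true), (2, 16, true), (4, 26, true), (6, 21, true), (5, 21, true), (4, 20, true), (3, 20, true), (7, 21, true), (6, 21, true), (5, 20, true), (4, 20, true), (8, 24, true), (7, 24, true), (6, 23, true), (5, 23, true), (9, 24, true), (8, 24, true), (7, 23, true), (6, 23, true), (10, 26, true), (9, 26, true), (7, 25, true), (8, 26, true), (7, 26, true), (9, 26, true), (8, 26, true), (10, 26, true), (9, 26, true), (7, 25, true), (8, 26, true), (7, 26, true), (9, 24, true), (8, 24, true), (7, 23, true), (5, 22, true), (6, 27, true), (6, 24, true), (5, 23, true), (7, 27, true)]),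
  ([8, 3, 0], [(0, 38, true), (6, 35, true), (5, 6, true), (4, 6, true), (3, 5, true), (2, 3, true), (1, 2, true), (0, 2, true), (5, 17, true), (4, 17, true), (3, 16, true), (2, 16, true), (4, 26, true), (5, 27, true), (5, 26, true), (3, 25, true), (3, 26, true), (4, 27, true), (3, 20, true), (4, 23, true), (5, 23, true), (6, 25, true), (7, 6, true), (6, 6, true), (5, 4, true), (4, 4, true), (3, 3, true), (2, 2, true), (1, 2, true), (6, 17, true), (5, 17, true), (4, 16, true), (3, 16, true), (5, 26, true), (6, 27, true), (6, 26, true), (4, 25, true), (4, 26, true), (5, 27, true), (4, 20, true), (5, 23, true), (6, 23, true), (8, 23, true), (7, 23, true), (5, 22, true), (6, 23, true), (5, 23, true), (9, 26, true), (8, 26, true), (6, 25, true), (7, 26, true), (6, 26, true), (7, 27, true)],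
    [(1, 3, true), (0, 35, true), (5, 38, true), (11, 39, true), (13, 39, true), (15, 40, true), (4, 17, true), (3, 16, true), (2, 16, true), (4, 26, true), (5, 27, true), (4, 16, true), (3, 16, true), (5, 26, true), (7, 21, true), (6, 21, true), (5, 20, true), (4, 20, true), (8, 26, true), (7, 26, true), (5, 25, true), (5, 27, true), (5, 26, true), (6, 26, true), (7, 26, true), (5, 25, true), (5, 26, true), (6, 24, true), (5, 23, true), (7, 27, true)])]

/-- The 3-part. -/
def certThree : Schur.StableCert.Cert where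
  rules := certThreeRules
  n := 7
  sylRules := 28
  eqs := certThreeEqs0 ++ certThreeEqs1
  adj := [
    [],
    [],
    [],
    [],
    [0, 0, 1, 1, 0, 0, 0, 0, 0, 1],
    [0, 0, 1, 2, 0, 0, 0, 0, 0, 1],
    [0, 0, 1, 1, 0, 0, 0, 0, 0, 2]]
  sel := [
    [(0, 1), (1, 1), (2, 2), (6, 2), (11, 1), (12, 1), (13, 1), (14, 2), (15, 2)],
    [(0, 2), (1, 2), (3, 1), (10, 2), (18, 2), (24, 1), (26, 2)],
    [],
    [],
    [(1, 1), (4, 1), (5, 2), (9, 1), (18, 2)],
    [(1, 1), (5, 1), (9, 1), (10, 1), (18, 1), (24, 1)],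
    [(5, 2)],
    [(0, 1), (1, 1), (2, 2), (6, 2), (11, 1), (12, 1), (13, 1), (14, 1), (15, 2)],
    [(0, 2), (1, 1), (2, 1), (3, 1), (4, 1), (5, 1), (7, 2), (8, 1), (9, 2), (10, 2), (11, 1), (18, 2), (20, 2), (21, 2), (22, 2), (25, 2), (27, 2), (28, 2), (29, 1)],
    [],
    [(0, 1), (3, 2), (5, 1), (9, 2), (18, 2), (24, 1)],
    [(1, 2), (4, 2), (5, 1), (9, 2), (24, 1)],
    [(0, 2), (1, 2), (3, 1), (4, 2)],
    [(1, 2), (6, 1), (11, 2), (16, 2), (17, 1)],
    [(0, 1), (1, 2), (3, 1), (6, 1), (7, 2), (8, 2), (23, 2)],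
    [(1, 2), (2, 2), (5, 1), (6, 2), (7, 1), (8, 2), (11, 1), (12, 2), (18, 1), (20, 2), (21, 2), (22, 2), (24, 1), (25, 2)],
    [(0, 2), (1, 2), (2, 2), (3, 1), (6, 1), (7, 1), (8, 2), (9, 2), (10, 1), (11, 2), (13, 1), (18, 1), (19, 1), (21, 1), (22, 2), (24, 1), (25, 2), (27, 2), (28, 2), (29, 1)],
    [(2, 1), (6, 2)],
    [(1, 2), (6, 1), (11, 2), (12, 2), (13, 2), (16, 1), (17, 1)],
    [(1, 1), (2, 1), (3, 1), (6, 1), (7, 2), (8, 1), (9, 2), (10, 1), (12, 1), (13, 1), (18, 1), (19, 1), (21, 1), (22, 2), (24, 1), (25, 2), (27, 2), (28, 2), (29, 1)],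
    [(1, 1), (2, 1), (3, 1), (5, 1), (6, 2), (8, 1), (9, 1), (10, 2), (11, 1), (12, 1), (13, 2), (19, 2), (20, 2), (21, 1), (27, 1), (28, 1), (29, 2)],
    [(2, 1)],
    [(0, 1), (2, 2), (12, 1), (13, 2)],
    [(0, 1), (1, 2), (3, 2)],
    [(0, 2)],
    [(0, 1), (1, 2), (2, 2), (6, 1), (11, 2)],
    [(0, 2), (1, 1)],
    [(0, 2), (1, 1), (2, 1), (6, 2), (11, 1), (12, 1)]]
  extra := []

/-- The 5-part. (rules) -/
def certFiveRules : List (List ℕ × List ℕ) := [
  ([0, 0, 0, 0, 0], []),
  ([1, 0], [0, 1, 2, 2, 2, 2]),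
  ([2, 0], [0, 2]),
  ([1, 1, 1, 1, 1], []),
  ([2, 1], [1, 2]),
  ([2, 2, 2, 2, 2], []),
  ([0, 1], [2, 1, 0]),
  ([3, 0], [0, 0, 0, 0, 3]),
  ([3, 1], [1, 1, 1, 1, 3]),
  ([2, 0], [0, 2]),
  ([2, 1], [1, 2])]

/-- The 5-part. -/
def certFive : Schur.StableCert.Cert where
  rules := certFiveRules
  n := 3
  sylRules := 6
  eqs := []
  adj := [
]
  sel := [
]
  extra := []

end Cfsg.Agent.Co3Mult
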