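import Cfsg.Agent.Lib.Co3Mult.Model

/-!
Checks on the pairs and the generators.
-/

set_option autoImplicit false
set_option maxRecDepth 100000

namespace Cfsg.Agent.Co3Mult

open Cfsg Cfsg.Agent.Leech Cfsg.Agent.ConwayOut

/-- The tree reaches every vector from the first. -/
def treeOK : Bool :=
  (pairTree.all fun e => decide (e.1 < 276) && decide (e.2.1 < 276) && decide (e.2.2 < 4) &&
    Nat.beq (app10 (baseImgs.getD e.2.2 0) e.2.1) e.1) &&
    ((List.range pairTree.length).all fun i =>
      decide ((pairTree.getD i (0, 0, 0)).2.1 = 0) ||
        (pairTree.take i).any fun e => Nat.beq e.1 (pairTree.getD i (0, 0, 0)).2.1) &&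
    (List.range 275).all fun y => pairTree.any fun e => Nat.beq e.1 (y + 1)

/-- The listed images are those of the generators. -/
def baseOK : Bool :=
  (baseImgs.length == 8) && (baseGens.all fun g => [g].all Gen.ok &&
    sendsB [g] vecThree vecThree) &&
    ((List.range 4).all fun a => (List.range 276).all fun x =>
      decide (app10 (baseImgs.getD a 0) x < 552) &&
        sendsTo (baseGens.getD a []) (pairVecs.getD x 0) (app10 (baseImgs.getD a 0) x)) &&
    (List.range 4).all fun a => invOK (baseImgs.getD (a + 4) 0) (baseImgs.getD a 0)

theorem tree_ok : treeOK = true := by decide +kernel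

theorem base_ok : baseOK = true := by decide +kernel

theorem span_ok : spanOK = true := by decide +kernel

theorem first_vec : ((baseV : leechLattice) : GolayPt → ℤ) = dec8 (pairVecs.getD 0 0) := by
  funext p; revert p; decide +kernel

theorem fixed_vec : ((baseU : leechLattice) : GolayPt → ℤ) = dec8 vecThree := by
  funext p; revert p; decide +kernel

/-- The packed difference from the fixed vector. -/
def oppCode (V : ℕ) : ℕ :=
  Nat.sub (Nat.add vecThree 0x808080808080808080808080808080808080808080808080) V

/-- The 552 vectors are distinct. -/
def distinctOK : Bool :=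
  (pairVecs.length == 276) &&
    (pairVecs.all fun V => Nat.beq (pack8 (dig8 V)) V &&
      Nat.beq (pack8 fun n => dig8 vecThree n - dig8 V n) (oppCode V)) &&
    decide ((pairVecs ++ pairVecs.map oppCode).Nodup)

theorem distinct_ok : distinctOK = true := by decide +kernel

end Cfsg.Agent.Co3Mult
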