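import Cfsg.Agent.Lib.Co3Mult.Model

/-!
Checks on the certificates and on the elements they are about.
-/

set_option autoImplicit false
set_option maxRecDepth 100000

namespace Cfsg.Agent.Co3Mult

/-- All products. -/
def allSteps : List (ℕ × ℕ × ℕ) := slpSteps.flatten

/-- All signed permutations. -/
def allImgs : List ℕ := baseImgs ++ allSteps.map (·.1)

/-- The signed permutations at given positions. -/
def pick (is : List ℕ) : List ℕ := is.map fun i => allImgs.getD i 0

/-- Checks on one of the three parts. -/
def partOK (is pts : List ℕ) (C : Schur.StableCert.Cert) (words : List (List ℕ)) : Bool :=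
  is.all (fun i => decide (i < allImgs.length)) &&
    C.rules.all (fun r => r.1.all (fun i => decide (i < is.length)) && r.2.all fun i => decide (i < is.length)) &&
    eqsOK (pick is) C.rules && decide (C.n ≤ is.length) && pts.all (fun x => decide (x < 276)) &&
    words.all (fun w => w.all fun i => decide (i < C.n)) && keysOK (pick is) pts words

theorem slp_ok : slpOK allSteps baseImgs = true := by decide +kernel

theorem two_check : certTwo.check 2 = true := by decide +kernel

theorem three_check : certThree.check 3 = true := by decide +kernel

theorem five_shape : certFive.shape 5 = true := by decide +kernel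

theorem two_part : partOK twoIdx twoPts certTwo twoWords = true := by decide +kernel

theorem three_part : partOK threeIdx threePts certThree threeWords = true := by decide +kernel

theorem five_part : partOK fiveIdx fivePts certFive fiveWords = true := by decide +kernel

theorem two_len : certTwo.n = 10 ∧ twoWords.length = 2 ^ 10 ∧ certTwo.extra = [] := by decide +kernel

theorem three_len : certThree.n = 7 ∧ threeWords.length = 3 ^ 7 ∧ certThree.extra = [] := by decide +kernel

theorem five_len : certFive.n = 3 ∧ fiveWords.length = 5 ^ 3 ∧ imgW (pick fiveIdx) [2] 0 ≠ 0 := by decide +kernel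

theorem five_rules : ∀ r ∈ [([0, 1], [2, 1, 0]), ([3, 0], [0, 0, 0, 0, 3]), ([3, 1], [1, 1, 1, 1, 3]),
    ([2, 0], [0, 2]), ([2, 1], [1, 2]), ([0, 0, 0, 0, 0], []), ([1, 1, 1, 1, 1], []), ([2, 2, 2, 2, 2], [])],
    r ∈ certFive.rules := by decide +kernel

end Cfsg.Agent.Co3Mult
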