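import Cfsg.Agent.Lib.ConwayOut.Data
import Cfsg.Agent.Lib.Leech.Co3Group
import Cfsg.Agent.Lib.Co3Mult.Data
import Cfsg.Agent.Lib.Co3Mult.Certs

/-!
Signed permutations of 276 pairs of vectors representing elements of Co3.

The index `x < 276` stands for the vector `x` of the list, `x + 276` for its difference from the fixed vector.  An
element is determined by its action on the first 24 vectors, a rational basis.
-/

set_option autoImplicit false
set_option maxRecDepth 20000

namespace Cfsg.Agent.Co3Mult

open Cfsg Cfsg.Agent.Leech Cfsg.Agent.ConwayOut MulAction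

/-- The entry `x` of a packed signed permutation. -/
def app10 (l x : ℕ) : ℕ := Nat.land (Nat.shiftRight l (Nat.mul 10 x)) 1023

/-- The other vector of a pair. -/
def flip (y : ℕ) : ℕ := if Nat.blt y 276 then Nat.add y 276 else Nat.sub y 276

/-- The image of any of the 552 indices. -/
def img (l x : ℕ) : ℕ := if Nat.blt x 276 then app10 l x else flip (app10 l (Nat.sub x 276))

/-- The coordinate `n` of the vector `j`. -/
def coord (j n : ℕ) : ℤ :=
  if j < 276 then dig8 (pairVecs.getD j 0) n else dig8 vecThree n - dig8 (pairVecs.getD (j - 276) 0) n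

/-- The image by the generator agrees with the coordinates of the vector `j`. -/
def sendsTo (g : Gen) (V j : ℕ) : Bool :=
  match evalW [g] V with
  | none => false
  | some W => (List.range 24).all fun n => dig8 W n == coord j n

/-- The generators. -/
def baseGens : List Gen := [genX, genY, genT, genG]

open Classical in
/-- The vector `i` of the list. -/
noncomputable def vert (i : ℕ) : leechLattice :=
  if h : dec8 (pairVecs.getD i 0) ∈ leechLattice then ⟨_, h⟩ else 0

/-- The vector of any of the 552 indices. -/
noncomputable def vec (j : ℕ) : leechLattice := if j < 276 then vert j else baseU - vert (j - 276)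

/-- The packed signed permutation of an element. -/
def Rep (g : co3Grp) (l : ℕ) : Prop := ∀ x < 276, app10 l x < 552 ∧ (g : Co0) • vert x = vec (app10 l x)

theorem flip_lt {y : ℕ} (h : y < 552) : flip y < 552 := by
  unfold flip
  by_cases h' : y < 276 <;> simp [Nat.blt_eq, h'] <;> omega

theorem vec_flip {y : ℕ} (h : y < 552) : vec (flip y) = baseU - vec y := by
  unfold flip vec
  by_cases h' : y < 276
  · simp [Nat.blt_eq, h']
  · simp only [Nat.blt_eq, h', if_false]
    rw [if_pos (show Nat.sub y 276 < 276 by show y - 276 < 276; omega), sub_sub_cancel]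
    rfl

theorem Rep.smul_vec {g : co3Grp} {l : ℕ} (h : Rep g l) {x : ℕ} (hx : x < 552) :
    img l x < 552 ∧ (g : Co0) • vec x = vec (img l x) := by
  unfold img
  by_cases hx' : x < 276
  · simp only [Nat.blt_eq, hx', if_true]
    refine ⟨(h x hx').1, ?_⟩
    rw [show vec x = vert x by simp [vec, hx']]
    exact (h x hx').2
  · simp only [Nat.blt_eq, hx', if_false]
    obtain ⟨h1, h2⟩ := h (x - 276) (by omega)
    refine ⟨flip_lt h1, ?_⟩
    rw [show Nat.sub x 276 = x - 276 from rfl, vec_flip h1, show vec x = baseU - vert (x - 276) by simp [vec, hx'], sub_eq_add_neg, co0_add, co0_neg,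
      mem_stabilizer_iff.1 g.2, h2, ← sub_eq_add_neg]

/-- The image under a word in a table of signed permutations. -/
def imgW (ls : List ℕ) : List ℕ → ℕ → ℕ
  | [], x => x
  | i :: w, x => img (ls.getD i 0) (imgW ls w x)

/-- The product of two signed permutations. -/
def prodOK (c a b : ℕ) : Bool := (List.range 276).all fun x => Nat.beq (app10 c x) (img a (app10 b x))

/-- Inverse signed permutations. -/
def invOK (c a : ℕ) : Bool :=
  (List.range 276).all fun x => decide (app10 c x < 552) && Nat.beq (img a (app10 c x)) x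

/-- A list of products of earlier members. -/
def slpOK : List (ℕ × ℕ × ℕ) → List ℕ → Bool
  | [], _ => true
  | (c, a, b) :: rest, L => decide (a < L.length) && decide (b < L.length) &&
      prodOK c (L.getD a 0) (L.getD b 0) && slpOK rest (L ++ [c])

theorem Rep.mul {g h : co3Grp} {a b c : ℕ} (hg : Rep g a) (hh : Rep h b) (hc : prodOK c a b = true) :
    Rep (g * h) c := by
  simp only [prodOK, List.all_eq_true, List.mem_range] at hc
  intro x hx
  obtain ⟨h1, h2⟩ := hh x hx
  obtain ⟨h3, h4⟩ := hg.smul_vec h1
  rw [Nat.eq_of_beq_eq_true (hc x hx)]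
  exact ⟨h3, by rw [Subgroup.coe_mul, mul_smul, h2, h4]⟩

theorem Rep.inv {g : co3Grp} {a c : ℕ} (hg : Rep g a) (hc : invOK c a = true) : Rep g⁻¹ c := by
  simp only [invOK, List.all_eq_true, List.mem_range, Bool.and_eq_true, decide_eq_true_eq] at hc
  intro x hx
  obtain ⟨h1, h2⟩ := hc x hx
  refine ⟨h1, ?_⟩
  have e := (hg.smul_vec h1).2
  rw [Nat.eq_of_beq_eq_true h2, show vec x = vert x by simp [vec, hx]] at e
  rw [Subgroup.coe_inv, inv_smul_eq_iff, e]

theorem exists_rep_slp : ∀ (steps : List (ℕ × ℕ × ℕ)) (L : List ℕ), slpOK steps L = true →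
    (∀ l ∈ L, ∃ g : co3Grp, Rep g l) → ∀ l ∈ L ++ steps.map (·.1), ∃ g : co3Grp, Rep g l := by
  intro steps
  induction steps with
  | nil => intro L _ h l hl; exact h l (by simpa using hl)
  | cons s rest ih =>
    obtain ⟨c, a, b⟩ := s
    intro L hok h l hl
    simp only [slpOK, Bool.and_eq_true, decide_eq_true_eq] at hok
    obtain ⟨⟨⟨ha, hb⟩, hc⟩, hrest⟩ := hok
    refine ih (L ++ [c]) hrest (fun l hl => ?_) l (by simpa using hl)
    rcases List.mem_append.1 hl with hl | hl
    · exact h l hl
    · rw [List.mem_singleton.1 hl]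
      rw [List.getD_eq_getElem _ _ ha, List.getD_eq_getElem _ _ hb] at hc
      obtain ⟨g, hg⟩ := h _ (List.getElem_mem ha)
      obtain ⟨g', hg'⟩ := h _ (List.getElem_mem hb)
      exact ⟨g * g', hg.mul hg' hc⟩

theorem Rep.prodW {g : ℕ → co3Grp} {ls : List ℕ} :
    ∀ (w : List ℕ), (∀ i ∈ w, Rep (g i) (ls.getD i 0)) → ∀ {x : ℕ}, x < 552 →
      imgW ls w x < 552 ∧ ((Schur.StableCert.prodW g w : co3Grp) : Co0) • vec x = vec (imgW ls w x)
  | [], _, x, hx => ⟨hx, by simp [Schur.StableCert.prodW, imgW]⟩
  | i :: w, h, x, hx => by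
    obtain ⟨h1, h2⟩ := Rep.prodW w (fun j hj => h j (List.mem_cons_of_mem _ hj)) hx
    obtain ⟨h3, h4⟩ := (h i List.mem_cons_self).smul_vec h1
    exact ⟨h3, by rw [Schur.StableCert.prodW_cons, Subgroup.coe_mul, mul_smul, h2, h4]; rfl⟩

/-- The coordinates of a spanning combination. -/
def spanOK : Bool :=
  (spanIdx.all fun k => decide (k < 276)) && (List.range 24).all fun n =>
    decide ((spanCoeff.getD n (0, [])).1 ≠ 0) && (List.range 24).all fun m =>
      ((spanIdx.zip (spanCoeff.getD n (0, [])).2).map fun e => e.2 * dig8 (pairVecs.getD e.1 0) m).sum ==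
        ((spanCoeff.getD n (0, [])).1 : ℤ) * (if m = n then 8 else 0)

/-- Rules between words hold. -/
def eqsOK (ls : List ℕ) (rules : List (List ℕ × List ℕ)) : Bool :=
  rules.all fun r => spanIdx.all fun x => Nat.beq (imgW ls r.1 x) (imgW ls r.2 x)

/-- Strictly increasing. -/
def incB : List ℕ → Bool
  | [] => true
  | [_] => true
  | a :: b :: l => Nat.blt a b && incB (b :: l)

theorem pairwise_of_incB : ∀ l : List ℕ, incB l = true → l.Pairwise (· < ·) := by
  intro l h
  rw [← List.isChain_iff_pairwise]
  induction l with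
  | nil => exact List.isChain_nil
  | cons a l ih =>
    cases l with
    | nil => exact List.isChain_singleton a
    | cons b l =>
      rw [incB, Bool.and_eq_true, Nat.blt_eq] at h
      exact List.isChain_cons_cons.2 ⟨h.1, ih h.2⟩

/-- The number of a list of indices. -/
def listKey (l : List ℕ) : ℕ := l.foldl (fun acc x => Nat.add (Nat.mul 1024 acc) x) 0

/-- The images of the separating points under the words increase. -/
def keysOK (ls pts : List ℕ) (words : List (List ℕ)) : Bool :=
  incB (words.map fun w => listKey (pts.map (imgW ls w)))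

end Cfsg.Agent.Co3Mult
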