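import Cfsg.Agent.Lib.Co3Mult.Checks
import Cfsg.Agent.Lib.Co3Mult.GroupChecks
import Cfsg.Agent.Lib.Schur.OddLocal
import Cfsg.Agent.Lib.Schur.SylowLocal
import Cfsg.Agent.Lib.Schur.Exponent

/-!
The Schur multiplier of Co3 is trivial.

For 2 and 3 certificates on the tails over a Sylow subgroup with fusing elements from the centraliser of a central
element; for 5 an involution inverting the extraspecial Sylow subgroup; the other primes divide once.
-/

set_option autoImplicit false
set_option maxRecDepth 20000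

namespace Cfsg.Agent.Co3Mult

open Cfsg Cfsg.Agent.Leech Cfsg.Agent.ConwayOut MulAction Subgroup
open Schur.StableCert (prodW Cert)
open scoped commutatorElement

/-- The packed coordinates of a vector. -/
noncomputable def codeOf (v : leechLattice) : ℕ :=
  pack8 fun n => (v : GolayPt → ℤ) (Mathieu.idx Mathieu.ptEnc n)

theorem pack8_congr {f f' : ℕ → ℤ} (h : ∀ n < 24, f n = f' n) : pack8 f = pack8 f' := by
  have : ∀ l : List ℕ, (∀ x ∈ l, x < 24) →
      l.foldr (fun i acc => (f i + 128).toNat + 256 * acc) 0 =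
        l.foldr (fun i acc => (f' i + 128).toNat + 256 * acc) 0 := by
    intro l
    induction l with
    | nil => intro _; rfl
    | cons x l ih =>
      intro hl
      rw [List.foldr_cons, List.foldr_cons, h x (hl x List.mem_cons_self),
        ih fun y hy => hl y (List.mem_cons_of_mem _ hy)]
  exact this _ fun x hx => List.mem_range.1 hx

theorem base_spec :
    (baseImgs.length = 8) ∧
    (∀ g ∈ baseGens, [g].all Gen.ok = true ∧ sendsB [g] vecThree vecThree = true) ∧
    (∀ a < 4, ∀ x < 276, app10 (baseImgs.getD a 0) x < 552 ∧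
      sendsTo (baseGens.getD a []) (pairVecs.getD x 0) (app10 (baseImgs.getD a 0) x) = true) ∧
    ∀ a < 4, invOK (baseImgs.getD (a + 4) 0) (baseImgs.getD a 0) = true := by
  have h := base_ok
  simp only [baseOK, Bool.and_eq_true, beq_iff_eq, List.all_eq_true (l := List.range 4),
    List.all_eq_true (l := List.range 276), List.all_eq_true (l := baseGens), List.mem_range,
    decide_eq_true_eq] at h
  exact ⟨h.1.1.1, h.1.1.2, h.1.2, h.2⟩

theorem gen_mem {a : ℕ} (ha : a < 4) : baseGens.getD a [] ∈ baseGens := by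
  rw [List.getD_eq_getElem _ _ (show a < baseGens.length from ha)]; exact List.getElem_mem _

theorem coe_el_smul {a x j : ℕ} (ha : a < 4) {v : leechLattice}
    (hv : (v : GolayPt → ℤ) = dec8 (pairVecs.getD x 0))
    (hs : sendsTo (baseGens.getD a []) (pairVecs.getD x 0) j = true) :
    ((el (baseGens.getD a []) • v : leechLattice) : GolayPt → ℤ) = fun p => coord j (Mathieu.ptEnc p).val := by
  simp only [sendsTo] at hs
  split at hs
  · simp at hs
  · rename_i W hW
    rw [← wordEl_singleton, evalW_spec _ (base_spec.2.1 _ (gen_mem ha)).1 _ _ v hv hW]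
    simp only [List.all_eq_true, List.mem_range, beq_iff_eq] at hs
    funext p
    exact hs _ (Mathieu.ptEnc p).isLt

theorem mem_pairVecs {i : ℕ} (hi : i < 276) : dec8 (pairVecs.getD i 0) ∈ leechLattice := by
  have h := tree_ok
  simp only [treeOK, Bool.and_eq_true, Bool.or_eq_true, List.all_eq_true, List.any_eq_true, List.mem_range,
    decide_eq_true_eq] at h
  obtain ⟨⟨hedge, hprev⟩, hall⟩ := h
  have h0 : dec8 (pairVecs.getD 0 0) ∈ leechLattice := first_vec ▸ baseV.2
  have key : ∀ t < pairTree.length, dec8 (pairVecs.getD (pairTree.getD t (0, 0, 0)).1 0) ∈ leechLattice := by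
    intro t
    induction t using Nat.strong_induction_on with
    | _ t ih =>
      intro ht
      have hm : pairTree.getD t (0, 0, 0) ∈ pairTree := by
        rw [List.getD_eq_getElem _ _ ht]; exact List.getElem_mem _
      obtain ⟨⟨⟨h1, h2⟩, h3⟩, h4⟩ := hedge _ hm
      have hx : dec8 (pairVecs.getD (pairTree.getD t (0, 0, 0)).2.1 0) ∈ leechLattice := by
        rcases hprev t ht with e | ⟨e, he, he'⟩
        · rw [e]; exact h0
        · obtain ⟨u, hu, rfl⟩ := List.getElem_of_mem he
          rw [List.length_take] at hu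
          have := ih u (by omega) (by omega)
          rw [List.getD_eq_getElem _ _ (show u < pairTree.length by omega)] at this
          rw [List.getElem_take] at he'
          rwa [← Nat.eq_of_beq_eq_true he']
      obtain ⟨-, hs⟩ := base_spec.2.2.1 _ h3 _ h2
      rw [Nat.eq_of_beq_eq_true h4] at hs
      have e := coe_el_smul h3 (v := ⟨_, hx⟩) rfl hs
      have e' : (fun p => coord (pairTree.getD t (0, 0, 0)).1 (Mathieu.ptEnc p).val) =
          dec8 (pairVecs.getD (pairTree.getD t (0, 0, 0)).1 0) := by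
        funext p; simp only [coord, dec8]; rw [if_pos h1]
      rw [← e', ← e]
      exact (el (baseGens.getD (pairTree.getD t (0, 0, 0)).2.2 []) • (⟨_, hx⟩ : leechLattice)).2
  rcases i with _ | i
  · exact h0
  obtain ⟨e, he, he'⟩ := hall i (by omega)
  obtain ⟨u, hu, rfl⟩ := List.getElem_of_mem he
  have := key u hu
  rw [List.getD_eq_getElem _ _ hu] at this
  rwa [Nat.eq_of_beq_eq_true he'] at this

theorem vert_val {i : ℕ} (hi : i < 276) : ((vert i : leechLattice) : GolayPt → ℤ) = dec8 (pairVecs.getD i 0) := by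
  rw [vert, dif_pos (mem_pairVecs hi)]

theorem vec_val {j : ℕ} (hj : j < 552) :
    ((vec j : leechLattice) : GolayPt → ℤ) = fun p => coord j (Mathieu.ptEnc p).val := by
  funext p
  unfold vec coord
  by_cases h : j < 276
  · simp only [h, if_true, vert_val h, dec8]
  · simp only [h, if_false, AddSubgroup.coe_sub, Pi.sub_apply, fixed_vec,
      vert_val (show j - 276 < 276 by omega), dec8]

theorem vec_inj {j k : ℕ} (hj : j < 552) (hk : k < 552) (h : vec j = vec k) : j = k := by
  have hd := distinct_ok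
  simp only [distinctOK, Bool.and_eq_true, beq_iff_eq, List.all_eq_true, decide_eq_true_eq] at hd
  obtain ⟨⟨hlen, hcode⟩, hnd⟩ := hd
  have hl : (pairVecs ++ pairVecs.map oppCode).length = 552 := by simp [hlen]
  have key : ∀ i, ∀ hi : i < 552, codeOf (vec i) = (pairVecs ++ pairVecs.map oppCode)[i]'(by omega) := by
    intro i hi
    have e : codeOf (vec i) = pack8 (coord i) := pack8_congr fun n hn => by
      rw [vec_val hi]
      exact congrArg (coord i) (Mathieu.idx_val hn)
    by_cases h' : i < 276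
    · rw [e, List.getElem_append_left (by omega)]
      rw [show coord i = dig8 (pairVecs.getD i 0) from funext fun n => by simp [coord, h'],
        List.getD_eq_getElem _ _ (by omega)]
      exact Nat.eq_of_beq_eq_true (hcode _ (List.getElem_mem _)).1
    · rw [e, List.getElem_append_right (by omega), List.getElem_map]
      rw [show coord i = (fun n => dig8 vecThree n - dig8 (pairVecs.getD (i - 276) 0) n) from
        funext fun n => by simp [coord, h'], List.getD_eq_getElem _ _ (by omega)]
      simp only [hlen]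
      exact Nat.eq_of_beq_eq_true (hcode _ (List.getElem_mem _)).2
  exact (List.Nodup.getElem_inj_iff hnd).1 ((key j hj).symm.trans ((congrArg codeOf h).trans (key k hk)))

theorem exists_rep_base {a : ℕ} (ha : a < 4) : ∃ g : co3Grp, Rep g (baseImgs.getD a 0) := by
  obtain ⟨hok, hU⟩ := base_spec.2.1 _ (gen_mem ha)
  have hfix : el (baseGens.getD a []) ∈ stabilizer Co0 baseU := by
    rw [mem_stabilizer_iff]
    refine Subtype.ext ?_
    rw [← wordEl_singleton, sendsB_spec hok hU fixed_vec, fixed_vec]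
  refine ⟨⟨_, hfix⟩, fun x hx => ?_⟩
  obtain ⟨h1, h2⟩ := base_spec.2.2.1 a ha x hx
  refine ⟨h1, Subtype.ext ?_⟩
  rw [vec_val h1]
  exact coe_el_smul ha (vert_val hx) h2

theorem exists_rep {l : ℕ} (hl : l ∈ allImgs) : ∃ g : co3Grp, Rep g l := by
  refine exists_rep_slp allSteps baseImgs slp_ok (fun l hl => ?_) l hl
  obtain ⟨a, ha, rfl⟩ := List.getElem_of_mem hl
  have h8 := base_spec.1
  rw [← List.getD_eq_getElem _ 0 ha]
  rcases Nat.lt_or_ge a 4 with h | h
  · exact exists_rep_base h
  · obtain ⟨b, rfl⟩ : ∃ b, a = b + 4 := ⟨a - 4, by omega⟩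
    obtain ⟨g, hg⟩ := exists_rep_base (show b < 4 by omega)
    exact ⟨g⁻¹, hg.inv (base_spec.2.2.2 b (by omega))⟩

theorem eq_of_span {g h : co3Grp} (he : ∀ x ∈ spanIdx, (g : Co0) • vert x = (h : Co0) • vert x) : g = h := by
  have hs := span_ok
  simp only [spanOK, Bool.and_eq_true, List.all_eq_true, List.mem_range, decide_eq_true_eq, beq_iff_eq] at hs
  obtain ⟨hlt, hsum⟩ := hs
  refine Subtype.ext (co0_ext _ _ fun p => ?_)
  obtain ⟨hd, hm⟩ := hsum _ (Mathieu.ptEnc p).isLt
  set d := (spanCoeff.getD (Mathieu.ptEnc p).val (0, [])).1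
  set cs := (spanCoeff.getD (Mathieu.ptEnc p).val (0, [])).2
  have hcomb : (d : ℤ) • eight p = ((spanIdx.zip cs).map fun e => e.2 • vert e.1).sum := by
    refine Subtype.ext (funext fun q => ?_)
    have hq := hm _ (Mathieu.ptEnc q).isLt
    rw [AddSubgroupClass.coe_zsmul, AddSubgroup.val_list_sum, List.map_map, eight_val]
    have e : ∀ L : List (GolayPt → ℤ), L.sum q = (L.map fun f => f q).sum := fun L =>
      map_list_sum (Pi.evalAddMonoidHom (fun _ : GolayPt => ℤ) q) L
    rw [e, List.map_map, Pi.smul_apply, Pi.single_apply, smul_eq_mul]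
    have e1 : (if q = p then (8 : ℤ) else 0) = if (Mathieu.ptEnc q).val = (Mathieu.ptEnc p).val then 8 else 0 := by
      by_cases hqp : q = p
      · simp [hqp]
      · rw [if_neg hqp, if_neg fun h => hqp (Mathieu.ptEnc.injective (Fin.ext h))]
    rw [e1, ← hq]
    refine congrArg List.sum (List.map_congr_left fun z hz => ?_)
    simp only [Function.comp_apply, AddSubgroupClass.coe_zsmul, Pi.smul_apply, smul_eq_mul,
      vert_val (hlt _ (List.of_mem_zip hz).1), dec8]
  have key : (g : Co0) • ((d : ℤ) • eight p) = (h : Co0) • ((d : ℤ) • eight p) := by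
    rw [hcomb]
    show actHom (g : Co0) _ = actHom (h : Co0) _
    rw [map_list_sum, map_list_sum, List.map_map, List.map_map]
    refine congrArg List.sum (List.map_congr_left fun z hz => ?_)
    show (g : Co0) • (z.2 • vert z.1) = (h : Co0) • (z.2 • vert z.1)
    rw [co0_zsmul, co0_zsmul, he _ (List.of_mem_zip hz).1]
  rw [co0_zsmul, co0_zsmul] at key
  refine Subtype.ext (funext fun q => ?_)
  have := congrFun (congrArg Subtype.val key) q
  simp only [AddSubgroupClass.coe_zsmul, Pi.smul_apply, smul_eq_mul] at this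
  exact mul_left_cancel₀ (by exact_mod_cast hd) this

theorem part_data {is pts : List ℕ} {C : Cert} {words : List (List ℕ)} (h : partOK is pts C words = true) :
    ∃ g : ℕ → co3Grp, (∀ i < is.length, Rep (g i) ((pick is).getD i 0)) ∧
      (∀ r ∈ C.rules, prodW g r.1 = prodW g r.2) ∧
      ∀ {p : ℕ}, C.shape p = true → 0 < p → words.length = p ^ C.n →
        Nat.card (closure (g '' Set.Iio C.n)) = p ^ C.n := by
  simp only [partOK, eqsOK, keysOK, Bool.and_eq_true, List.all_eq_true, decide_eq_true_eq] at h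
  obtain ⟨⟨⟨⟨⟨⟨his, hlt⟩, heq⟩, hn⟩, hpts⟩, hwlt⟩, hkeys⟩ := h
  have get : ∀ i, ∃ g : co3Grp, i < is.length → Rep g ((pick is).getD i 0) := fun i => by
    by_cases hi : i < is.length
    · have hm : (pick is).getD i 0 ∈ allImgs := by
        rw [pick, List.getD_eq_getElem _ _ (by simpa using hi), List.getElem_map,
          List.getD_eq_getElem _ _ (his _ (List.getElem_mem hi))]
        exact List.getElem_mem _
      obtain ⟨g, hg⟩ := exists_rep hm
      exact ⟨g, fun _ => hg⟩
    · exact ⟨1, fun h => absurd h hi⟩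
  choose g hg using get
  have hrep : ∀ w : List ℕ, (∀ i ∈ w, i < is.length) → ∀ {x : ℕ}, x < 552 →
      imgW (pick is) w x < 552 ∧ ((prodW g w : co3Grp) : Co0) • vec x = vec (imgW (pick is) w x) :=
    fun w hw x hx => Rep.prodW w (fun i hi => hg i (hw i hi)) hx
  have hspan : ∀ x ∈ spanIdx, x < 276 := by decide
  have hrel : ∀ r ∈ C.rules, prodW g r.1 = prodW g r.2 := fun r hr => eq_of_span fun x hx => by
    have h1 := (hrep r.1 (hlt r hr).1 (x := x) (by have := hspan x hx; omega)).2
    have h2 := (hrep r.2 (hlt r hr).2 (x := x) (by have := hspan x hx; omega)).2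
    rw [show vec x = vert x by simp [vec, hspan x hx]] at h1 h2
    rw [h1, h2, Nat.eq_of_beq_eq_true (heq r hr x hx)]
  refine ⟨g, hg, hrel, fun {p} hsh hp hlen => ?_⟩
  refine Schur.StableCert.card_closure_eq hsh hp hrel words hwlt hlen
    (fun u : co3Grp => pts.map fun x => (u : Co0) • vec x) ?_
  have e : ∀ w ∈ words, pts.map (fun x => ((prodW g w : co3Grp) : Co0) • vec x) =
      (pts.map (imgW (pick is) w)).map vec := fun w hw => by
    rw [List.map_map]
    exact List.map_congr_left fun x hx =>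
      (hrep w (fun i hi => lt_of_lt_of_le (hwlt w hw i hi) hn) (by have := hpts x hx; omega)).2
  rw [List.map_congr_left e]
  have hn1 : (words.map fun w => pts.map (imgW (pick is) w)).Nodup := by
    refine List.Nodup.of_map listKey ?_
    rw [List.map_map]
    exact (pairwise_of_incB _ hkeys).imp fun h => h.ne
  have := hn1.map_on (f := fun l => l.map vec) ?_
  · simpa [List.map_map, Function.comp_def] using this
  · intro a ha b hb hab
    obtain ⟨u, hu, rfl⟩ := List.mem_map.1 ha
    obtain ⟨v, hv, rfl⟩ := List.mem_map.1 hb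
    rw [List.map_map, List.map_map, List.map_inj_left] at hab
    refine List.map_congr_left fun x hx => vec_inj ?_ ?_ (hab x hx)
    · exact (hrep u (fun i hi => lt_of_lt_of_le (hwlt u hu i hi) hn) (by have := hpts x hx; omega)).1
    · exact (hrep v (fun i hi => lt_of_lt_of_le (hwlt v hv i hi) hn) (by have := hpts x hx; omega)).1

theorem card_co3 : Nat.card co3Grp = 495766656000 := card_stab_baseU

theorem not_dvd_index {H : Subgroup co3Grp} {p k m : ℕ} (hH : Nat.card H = p ^ k)
    (hm : 495766656000 = p ^ k * m) (hpm : ¬ p ∣ m) (hp : 0 < p) : ¬ p ∣ H.index := by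
  have h := H.card_mul_index
  rw [hH, card_co3, hm] at h
  rwa [Nat.eq_of_mul_eq_mul_left (pow_pos hp k) h]

variable {Γ : Type} [Group Γ] [Finite Γ]

theorem ker_two (σ : Γ →* co3Grp) (hσ : IsStemExtension σ) (hexp : ∀ z ∈ σ.ker, z ^ 2 = 1) : σ.ker = ⊥ := by
  haveI : Fact (Nat.Prime 2) := ⟨Nat.prime_two⟩
  obtain ⟨g, -, hrel, hcard⟩ := part_data two_part
  obtain ⟨hn, hlen, hex⟩ := two_len
  have hc := two_check
  have hsh : certTwo.shape 2 = true := by
    simp only [Schur.StableCert.Cert.check, Bool.and_eq_true] at hc; exact hc.1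
  have hC := hcard hsh two_pos (by rw [hn]; exact hlen)
  exact Schur.StableCert.ker_eq_bot_of_cert σ hσ hexp two_check hrel
    (fun k hk => absurd hk (by rw [hex]; exact List.not_mem_nil)) hC
    (not_dvd_index hC (m := 484147125) (by rw [hn]; norm_num) (by norm_num) two_pos)

theorem ker_three (σ : Γ →* co3Grp) (hσ : IsStemExtension σ) (hexp : ∀ z ∈ σ.ker, z ^ 3 = 1) : σ.ker = ⊥ := by
  haveI : Fact (Nat.Prime 3) := ⟨Nat.prime_three⟩
  obtain ⟨g, -, hrel, hcard⟩ := part_data three_part
  obtain ⟨hn, hlen, hex⟩ := three_len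
  have hc := three_check
  have hsh : certThree.shape 3 = true := by
    simp only [Schur.StableCert.Cert.check, Bool.and_eq_true] at hc; exact hc.1
  have hC := hcard hsh three_pos (by rw [hn]; exact hlen)
  exact Schur.StableCert.ker_eq_bot_of_cert σ hσ hexp three_check hrel
    (fun k hk => absurd hk (by rw [hex]; exact List.not_mem_nil)) hC
    (not_dvd_index hC (m := 226688000) (by rw [hn]; norm_num) (by norm_num) three_pos)

theorem ker_five (σ : Γ →* co3Grp) (hσ : IsStemExtension σ) (hexp : ∀ z ∈ σ.ker, z ^ 5 = 1) : σ.ker = ⊥ := by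
  haveI : Fact (Nat.Prime 5) := ⟨by norm_num⟩
  obtain ⟨hs, hz, hcd⟩ := hσ
  obtain ⟨g, hg, hrel, hcard⟩ := part_data five_part
  obtain ⟨hn, hlen, hne⟩ := five_len
  have hC := hcard five_shape (by norm_num) (by rw [hn]; exact hlen)
  have R : ∀ L R, (L, R) ∈ [([0, 1], [2, 1, 0]), ([3, 0], [0, 0, 0, 0, 3]), ([3, 1], [1, 1, 1, 1, 3]),
      ([2, 0], [0, 2]), ([2, 1], [1, 2]), ([0, 0, 0, 0, 0], []), ([1, 1, 1, 1, 1], []),
      ([2, 2, 2, 2, 2], [])] → prodW g L = prodW g R := fun L R h => hrel _ (five_rules _ h)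
  have rab := R [0, 1] [2, 1, 0] (by simp)
  have rta := R [3, 0] [0, 0, 0, 0, 3] (by simp)
  have rtb := R [3, 1] [1, 1, 1, 1, 3] (by simp)
  have rca := R [2, 0] [0, 2] (by simp)
  have rcb := R [2, 1] [1, 2] (by simp)
  have ra := R [0, 0, 0, 0, 0] [] (by simp)
  have rb := R [1, 1, 1, 1, 1] [] (by simp)
  have rc := R [2, 2, 2, 2, 2] [] (by simp)
  simp only [prodW, List.map_cons, List.map_nil, List.prod_cons, List.prod_nil, mul_one] at rab rta rtb rca rcb ra rb rc
  have hc : ⁅g 0, g 1⁆ = g 2 := by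
    rw [commutatorElement_def, rab]; group
  have h5 : ∀ x : co3Grp, x * (x * (x * (x * x))) = 1 → x ^ 5 = 1 ∧ x⁻¹ = x * (x * (x * x)) := fun x hx =>
    ⟨by simp only [pow_succ, pow_zero, one_mul, mul_assoc]; exact hx, inv_eq_of_mul_eq_one_right hx⟩
  have hc1 : g 2 ≠ 1 := fun h => by
    have hm : (2 : ℕ) < fiveIdx.length := by decide
    obtain ⟨h1, h2⟩ := Rep.prodW (g := g) (ls := pick fiveIdx) [2]
      (fun i hi => by rw [List.mem_singleton.1 hi]; exact hg 2 hm) (x := 0) (by norm_num)
    simp only [prodW, List.map_cons, List.map_nil, List.prod_cons, List.prod_nil, mul_one] at h2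
    rw [h, Subgroup.coe_one, one_smul] at h2
    exact hne (vec_inj h1 (by norm_num) h2.symm)
  set S := closure (g '' Set.Iio certFive.n) with hS
  have hle : S ≤ closure {g 0, g 1} := by
    rw [hS, hn, closure_le]
    rintro _ ⟨i, hi, rfl⟩
    have hi' : i < 3 := hi
    have m0 : g 0 ∈ closure {g 0, g 1} := subset_closure (Set.mem_insert _ _)
    have m1 : g 1 ∈ closure {g 0, g 1} := subset_closure (Set.mem_insert_of_mem _ rfl)
    interval_cases i
    · exact m0
    · exact m1
    · rw [← hc, commutatorElement_def]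
      exact mul_mem (mul_mem (mul_mem m0 m1) (inv_mem m0)) (inv_mem m1)
  obtain ⟨A, hA⟩ := hs (g 0)
  obtain ⟨B, hB⟩ := hs (g 1)
  obtain ⟨T, hT⟩ := hs (g 3)
  refine Schur.ker_eq_bot_of_local σ hz hcd (by norm_num) hexp (S.comap σ) ?_
    (Schur.commutator_inf_ker_eq_bot_of_oddPrime (p := 5) (by decide) σ hz (S.comap σ) (a := A) (b := B) (t := T)
      ?_ ?_ ?_ ?_ ?_ (i := 0) (j := 0) ?_ ?_ ?_ ?_)
  · rw [Subgroup.index_comap_of_surjective _ hs]
    exact not_dvd_index hC (m := 3966133248) (by rw [hn]; norm_num) (by norm_num) (by norm_num)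
  · rw [hA]; exact (h5 _ ra).1
  · rw [hA, hB, hc]; exact (h5 _ rc).1
  · rw [hA, hB, hc]; exact hc1
  · rw [hA, hB, hc]; exact rca
  · rw [hA, hB, hc]; exact rcb
  · rw [hT, hA, pow_zero, mul_one, mul_inv_eq_iff_eq_mul, (h5 _ ra).2, rta]; group
  · rw [hT, hB, pow_zero, mul_one, mul_inv_eq_iff_eq_mul, (h5 _ rb).2, rtb]; group
  · rw [hB]; exact (h5 _ rb).1
  · rw [hA, hB]; exact (map_comap_le _ _).trans hle

theorem prime_of_sq_dvd {p : ℕ} (hp : p.Prime) (h : p ^ 2 ∣ 495766656000) : p = 2 ∨ p = 3 ∨ p = 5 := by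
  have h1 : p ∣ 2 ^ 10 * 3 ^ 7 * 5 ^ 3 * 7 * 11 * 23 := (dvd_pow_self p two_ne_zero).trans (by norm_num; exact h)
  have e : ∀ q k : ℕ, q.Prime → p ∣ q ^ k → p = q := fun q k hq hd =>
    (Nat.prime_dvd_prime_iff_eq hp hq).1 (hp.dvd_of_dvd_pow hd)
  rcases hp.dvd_mul.1 h1 with h2 | h2
  · rcases hp.dvd_mul.1 h2 with h3 | h3
    · rcases hp.dvd_mul.1 h3 with h4 | h4
      · rcases hp.dvd_mul.1 h4 with h5 | h5
        · rcases hp.dvd_mul.1 h5 with h6 | h6
          · exact Or.inl (e 2 10 Nat.prime_two h6)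
          · exact Or.inr (Or.inl (e 3 7 Nat.prime_three h6))
        · exact Or.inr (Or.inr (e 5 3 (by norm_num) h5))
      · rw [e 7 1 (by norm_num) (by rwa [pow_one])] at h; norm_num at h
    · rw [e 11 1 (by norm_num) (by rwa [pow_one])] at h; norm_num at h
  · rw [e 23 1 (by norm_num) (by rwa [pow_one])] at h; norm_num at h

/-- The multiplier is trivial. -/
theorem co3Grp_multiplier : HasCyclicSchurMultiplier co3Grp 1 := by
  refine Schur.hasCyclicSchurMultiplier_one_of_exponent fun p hp Γ _ _ σ hσ hexp => ?_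
  by_cases h : p ^ 2 ∣ Nat.card co3Grp
  · rw [card_co3] at h
    rcases prime_of_sq_dvd hp h with rfl | rfl | rfl
    · exact ker_two σ hσ hexp
    · exact ker_three σ hσ hexp
    · exact ker_five σ hσ hexp
  · haveI := Fact.mk hp
    obtain ⟨P, hP⟩ := Schur.local_of_not_sq_dvd σ hσ.1 hσ.2.1 hp h
    exact Schur.ker_eq_bot_of_local σ hσ.2.1 hσ.2.2 hp hexp P P.not_dvd_index hP

end Cfsg.Agent.Co3Mult
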